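import Cfsg.Agent.Lib.Chev.Presentation.Rel

/-!
The action of the rank-one elements `n_i`, `h_i (v)` on abstract root elements.
-/

set_option autoImplicit false
set_option linter.unusedSectionVars false

namespace Cfsg.Lib.Chev

open Cfsg.Lie

variable {D : ChevalleyDatum} {T : Tbl} {F : Type*} [Field F]

/-- The pair `(a, b)` expresses `q` as the only term at `±p`, with unit coefficient. -/
def chkSelfAt (T : Tbl) (i q a b : ℕ) : Bool :=
  let p := T.simp' i
  let np := T.neg p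
  !Nat.beq a p && !Nat.beq a np && !Nat.beq b p && !Nat.beq b np && !Nat.beq b a && !Nat.beq b (T.neg a) &&
    (match (tTerms T a b).filter (fun c => Nat.beq c.1 p || Nat.beq c.1 np) with
      | [c] => Nat.beq c.1 q && (decide (c.2.1 = 1) || decide (c.2.1 = -1)) && (Nat.beq c.2.2.1 1 || Nat.beq c.2.2.2 1)
      | _ => false)

/-- The root lies in the subsystem of two fundamental roots. -/
noncomputable def inPairB (T : Tbl) (i j r : ℕ) : Bool :=
  allBelow (fun k => Nat.beq k i || (Nat.beq k j || decide (T.coroot r k = 0))) T.rank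

/-- Each `±p_i` is expressed inside a subsystem of rank two. -/
noncomputable def chkSelf (T : Tbl) : Bool :=
  allBelow (fun i => [T.simp' i, T.neg (T.simp' i)].all fun q =>
    anyBelow (fun j => anyBelow (fun a => inPairB T i j a &&
      anyBelow (fun b => inPairB T i j b && chkSelfAt T i q a b) T.nroots) T.nroots) T.rank) T.rank

theorem inPairB_iff (C : Cert D T) {i j r : ℕ} (hr : r < D.nroots) :
    inPairB T i j r = true ↔ D.InRootSub {i, j} r := by
  rw [inRootSub_iff C, inPairB, allBelow_iff, C.spec.shape.rank_eq]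
  refine ⟨fun h => ⟨hr, fun k hk hkJ => ?_⟩, fun h k hk => ?_⟩
  · have := h k hk
    simp only [Bool.or_eq_true, Nat.beq_eq, decide_eq_true_eq] at this
    simp only [Set.mem_insert_iff, Set.mem_singleton_iff] at hkJ
    tauto
  · simp only [Bool.or_eq_true, Nat.beq_eq, decide_eq_true_eq]
    by_cases hkJ : k ∈ ({i, j} : Set ℕ)
    · simp only [Set.mem_insert_iff, Set.mem_singleton_iff] at hkJ
      tauto
    · exact Or.inr (Or.inr (h.2 k hk hkJ))

variable {C : Cert D T} {X : Type*} [Group X]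

namespace RootMap

variable (R : RootMap C F X)

/-- `n̄_r (v)`. -/
def n (r : ℕ) (v : F) : X := R.x r v * R.x (T.neg r) (-v⁻¹) * R.x r v

/-- `h̄_r (v)`. -/
def h (r : ℕ) (v : F) : X := R.n r v * R.n r (-1)

/-- Conjugation by `g` moves the root group of `s` to that of `s'`, as it does in the matrix group. -/
def Mv (g : X) (s s' : ℕ) : Prop :=
  ∃ c : F, c ≠ 0 ∧ ∀ t, R.π g * xg C s t * (R.π g)⁻¹ = xg C s' (c * t) ∧ g * R.x s t * g⁻¹ = R.x s' (c * t)

end RootMap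

theorem xg_inj (C : Cert D T) {r : ℕ} (hr : r < D.nroots) {t u : F} (h : xg C r t = xg C r u) : t = u := by
  have h' : xg C r (t + -u) = 1 := by rw [← xg_add, ← xg_inv, h, mul_inv_cancel]
  have := xg_eq_one C hr h'
  linear_combination this

theorem hg_simple_conj (C : Cert D T) {i : ℕ} (hi : i < D.rank) {r : ℕ} (hr : r < D.nroots) {v : F} (hv : v ≠ 0)
    (t : F) : hg C (T.simp' i) v * xg C r t * (hg C (T.simp' i) v)⁻¹ = xg C r (v ^ T.cartan i r * t) := by
  rw [mul_inv_eq_iff_eq_mul]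
  refine Units.ext ?_
  rw [Units.val_mul, Units.val_mul, coe_hg_eq C (C.spec.simp_lt i hi) hv, coDiag_simple C hi, coe_xg, coe_xg,
    dModel_eq_scal hi, scal_mul_x C.spec _ (fun j _ => by split_ifs <;> simp [hv]) hr]
  congr 3
  simp only [chr]
  rw [Finset.prod_eq_single i (fun b _ hb => by simp [hb]) (fun h => absurd (Finset.mem_range.2 hi) h), if_pos rfl]

namespace RootMap

variable {R : RootMap C F X}

theorem Mv.eq {g : X} {s s' : ℕ} (h : R.Mv g s s') (hs' : s' < D.nroots) {t u : F}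
    (e : R.π g * xg C s t * (R.π g)⁻¹ = xg C s' u) : g * R.x s t * g⁻¹ = R.x s' u := by
  obtain ⟨c, -, h⟩ := h
  obtain ⟨h1, h2⟩ := h t
  rw [h2, xg_inj C hs' (h1.symm.trans e)]

theorem Mv.mul {g h : X} {s s' s'' : ℕ} (hh : R.Mv h s s') (hg : R.Mv g s' s'') : R.Mv (g * h) s s'' := by
  obtain ⟨c, hc, hh⟩ := hh
  obtain ⟨d, hd, hg⟩ := hg
  refine ⟨d * c, mul_ne_zero hd hc, fun t => ?_⟩
  obtain ⟨a1, a2⟩ := hh t
  obtain ⟨b1, b2⟩ := hg (c * t)
  rw [mul_assoc d c t, ← b1, ← b2, ← a1, ← a2, map_mul]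
  exact ⟨by group, by group⟩

theorem Mv.inv {g : X} {s s' : ℕ} (h : R.Mv g s s') : R.Mv g⁻¹ s' s := by
  obtain ⟨c, hc, h⟩ := h
  refine ⟨c⁻¹, inv_ne_zero hc, fun t => ?_⟩
  obtain ⟨a1, a2⟩ := h (c⁻¹ * t)
  rw [← mul_assoc, mul_inv_cancel₀ hc, one_mul] at a1 a2
  rw [← a1, ← a2, map_inv]
  exact ⟨by group, by group⟩

theorem Mv.one (s : ℕ) : R.Mv 1 s s := ⟨1, one_ne_zero, fun t => by simp⟩

theorem n_inv_of_add {r : ℕ} (h1 : ∀ t u, R.x r t * R.x r u = R.x r (t + u))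
    (h2 : ∀ t u, R.x (T.neg r) t * R.x (T.neg r) u = R.x (T.neg r) (t + u)) (v : F) :
    (R.n r v)⁻¹ = R.n r (-v) := by
  have z1 : R.x r 0 = 1 := by simpa using h1 0 0
  have z2 : R.x (T.neg r) 0 = 1 := by simpa using h2 0 0
  have i1 : ∀ t, (R.x r t)⁻¹ = R.x r (-t) := fun t => inv_eq_of_mul_eq_one_right (by rw [h1, add_neg_cancel, z1])
  have i2 : ∀ t, (R.x (T.neg r) t)⁻¹ = R.x (T.neg r) (-t) :=
    fun t => inv_eq_of_mul_eq_one_right (by rw [h2, add_neg_cancel, z2])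
  simp only [n, mul_inv_rev, i1, i2, inv_neg, mul_assoc]

end RootMap

/-- Relations inside all subsystems of two fundamental roots. -/
def PairRels (R : RootMap C F X) : Prop := ∀ i < D.rank, ∀ j < D.rank, RelsOn R {i, j}

namespace PairRels

variable {R : RootMap C F X} (hP : PairRels R) {i : ℕ} (hi : i < D.rank)
include hP hi

theorem simple_mem : D.InRootSub {i, i} (T.simp' i) := inRootSub_simple C hi (Set.mem_insert i _)

theorem neg_mem : D.InRootSub {i, i} (T.neg (T.simp' i)) := inRootSub_neg C (hP.simple_mem hi)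

theorem n_inv (v : F) : (R.n (T.simp' i) v)⁻¹ = R.n (T.simp' i) (-v) :=
  RootMap.n_inv_of_add ((hP i hi i hi).add _ (hP.simple_mem hi)) ((hP i hi i hi).add _ (hP.neg_mem hi)) v

theorem h_one : R.h (T.simp' i) 1 = 1 := by
  rw [RootMap.h, ← hP.n_inv hi, mul_inv_cancel]

theorem h_mul_n (v : F) : R.h (T.simp' i) v * R.n (T.simp' i) 1 = R.n (T.simp' i) v := by
  rw [RootMap.h, mul_assoc, ← hP.n_inv hi, inv_mul_cancel, mul_one]

theorem n_sq : R.n (T.simp' i) 1 * R.n (T.simp' i) 1 = (R.h (T.simp' i) (-1))⁻¹ := by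
  rw [RootMap.h, ← hP.n_inv hi, mul_inv_rev, inv_inv]

theorem π_n (v : F) : R.π (R.n (T.simp' i) v) = ng C (T.simp' i) v := by
  have h := hP i hi i hi
  rw [RootMap.n, map_mul, map_mul, h.proj _ (hP.simple_mem hi), h.proj _ (hP.neg_mem hi), ng,
    C.spec.shape.neg_eq _ (C.spec.simp_lt i hi)]

theorem π_h (v : F) : R.π (R.h (T.simp' i) v) = hg C (T.simp' i) v := by
  rw [RootMap.h, map_mul, hP.π_n hi, hP.π_n hi, hg]

omit hP hi in
theorem n_mem_oneSub (i : ℕ) (v : F) : R.n (T.simp' i) v ∈ oneSub R i :=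
  mul_mem (mul_mem (Subgroup.subset_closure ⟨_, v, Or.inl rfl, rfl⟩) (Subgroup.subset_closure ⟨_, _, Or.inr rfl, rfl⟩))
    (Subgroup.subset_closure ⟨_, v, Or.inl rfl, rfl⟩)

omit hP hi in
theorem h_mem_oneSub (i : ℕ) (v : F) : R.h (T.simp' i) v ∈ oneSub R i :=
  mul_mem (n_mem_oneSub i v) (n_mem_oneSub i (-1))

variable (K : FullCert D T)
include K

/-- Roots other than `±p_i`. -/
theorem conj_off {J : Set ℕ} (hJ : RelsOn R J) (hiJ : i ∈ J) {g : X} (hg : g ∈ oneSub R i) {s s' : ℕ}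
    (hs : D.InRootSub J s) (hs' : D.InRootSub J s') (h1 : s ≠ T.simp' i) (h2 : s ≠ T.neg (T.simp' i))
    (h1' : s' ≠ T.simp' i) (h2' : s' ≠ T.neg (T.simp' i)) (hsame : D.nroots ≤ 2 * s ↔ D.nroots ≤ 2 * s')
    {t u : F} (e : R.π g * xg C s t * (R.π g)⁻¹ = xg C s' u) : g * R.x s t * g⁻¹ = R.x s' u := by
  have key : ∀ {q : ℕ}, D.InRootSub J q → q ≠ T.simp' i → q ≠ T.neg (T.simp' i) → ∀ {b : Bool},
      (b = false ↔ D.nroots ≤ 2 * q) → ∀ v, R.x q v ∈ rad R J b i := by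
    intro q hq q1 q2 b hb v
    have hn := C.neg_eq hq.1
    have := nroots_even C
    refine Subgroup.subset_closure ⟨sd T b q, v, inRootSub_sd C b hq, ?_, ?_, by rw [sd_sd C b hq.1]⟩
    · cases b
      · exact hb.1 rfl
      · have : ¬ D.nroots ≤ 2 * q := fun h => Bool.noConfusion (hb.2 h)
        have := hq.1
        show D.nroots ≤ 2 * T.neg q
        omega
    · cases b
      · exact q1
      · intro e
        change T.neg q = T.simp' i at e
        exact q2 (by rw [← e, C.spec.neg_neg q hq.1])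
  have hb : (decide (2 * s < D.nroots) = false) ↔ D.nroots ≤ 2 * s := by
    rw [decide_eq_false_iff_not, not_lt]
  refine hJ.ub_inj K _ (rad_le_ub _ i (hJ.conj_rad K hi hiJ _ hg (key hs h1 h2 hb t)))
    (rad_le_ub _ i (key hs' h1' h2' (hb.trans hsame) u)) ?_
  rw [map_mul, map_mul, map_inv, hJ.proj _ hs, hJ.proj _ hs', e]

theorem conj_generic (hS : chkSelf T = true) {g : X} (hg : g ∈ oneSub R i) {σ : ℕ → ℕ} {χ : ℕ → F}
    (hσJ : ∀ (J : Set ℕ), i ∈ J → ∀ s, D.InRootSub J s → D.InRootSub J (σ s))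
    (hσinj : ∀ a < D.nroots, ∀ b < D.nroots, σ a = σ b → a = b)
    (hσneg : ∀ a < D.nroots, σ (T.neg a) = T.neg (σ a))
    (hσp : σ (T.simp' i) = T.simp' i ∨ σ (T.simp' i) = T.neg (T.simp' i))
    (hσpos : ∀ s < D.nroots, s ≠ T.simp' i → s ≠ T.neg (T.simp' i) → (D.nroots ≤ 2 * s ↔ D.nroots ≤ 2 * σ s))
    (hχ : ∀ s < D.nroots, χ s ≠ 0)
    (hπ : ∀ s < D.nroots, ∀ t, R.π g * xg C s t * (R.π g)⁻¹ = xg C (σ s) (χ s * t))
    (hT : ∀ a < D.nroots, ∀ b < D.nroots, ∀ t u : F, (tTerms T (σ a) (σ b)).map (tEval (χ a * t) (χ b * u)) =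
      (tTerms T a b).map fun c => (σ c.1, χ c.1 * (tEval t u c).2))
    {J : Set ℕ} (hJ : RelsOn R J) (hiJ : i ∈ J) {s : ℕ} (hs : D.InRootSub J s) : R.Mv g s (σ s) := by
  have hp := C.spec.simp_lt i hi
  have hnp := C.spec.neg_lt _ hp
  have hσ : ∀ q < D.nroots, q ≠ T.simp' i → q ≠ T.neg (T.simp' i) →
      σ q ≠ T.simp' i ∧ σ q ≠ T.neg (T.simp' i) := by
    intro q hq q1 q2
    have e2 : σ (T.neg (T.simp' i)) = T.neg (σ (T.simp' i)) := hσneg _ hp
    rcases hσp with e | e <;> constructor <;> intro h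
    · exact q1 (hσinj q hq _ hp (h.trans e.symm))
    · exact q2 (hσinj q hq _ hnp (h.trans (by rw [e2, e])))
    · exact q2 (hσinj q hq _ hnp (h.trans (by rw [e2, e, C.spec.neg_neg _ hp])))
    · exact q1 (hσinj q hq _ hp (h.trans e.symm))
  have hoff : ∀ (J : Set ℕ), RelsOn R J → i ∈ J → ∀ q, D.InRootSub J q → q ≠ T.simp' i →
      q ≠ T.neg (T.simp' i) → ∀ t, g * R.x q t * g⁻¹ = R.x (σ q) (χ q * t) := by
    intro J hJ hiJ q hq q1 q2 t
    obtain ⟨q1', q2'⟩ := hσ q hq.1 q1 q2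
    exact hP.conj_off hi K hJ hiJ hg hq (hσJ J hiJ q hq) q1 q2 q1' q2' (hσpos q hq.1 q1 q2) (hπ q hq.1 t)
  refine ⟨χ s, hχ s hs.1, fun t => ⟨hπ s hs.1 t, ?_⟩⟩
  by_cases hsp : s ≠ T.simp' i ∧ s ≠ T.neg (T.simp' i)
  · exact hoff J hJ hiJ s hs hsp.1 hsp.2 t
  have hS' := allBelow_iff.1 hS i (C.spec.shape.rank_eq ▸ hi)
  rw [List.all_eq_true] at hS'
  have hmem : s ∈ [T.simp' i, T.neg (T.simp' i)] := by
    simp only [List.mem_cons, List.not_mem_nil, or_false]; tauto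
  obtain ⟨j, hj, hS'⟩ := exists_of_anyBelow (hS' s hmem)
  rw [C.spec.shape.rank_eq] at hj
  obtain ⟨a, ha, hS'⟩ := exists_of_anyBelow hS'
  rw [Bool.and_eq_true] at hS'
  obtain ⟨b, hb, hS''⟩ := exists_of_anyBelow hS'.2
  rw [C.spec.shape.nroots_eq] at ha hb
  rw [Bool.and_eq_true] at hS''
  have haJ := (inPairB_iff C ha).1 hS'.1
  have hbJ := (inPairB_iff C hb).1 hS''.1
  have hc := hS''.2
  simp only [chkSelfAt, Bool.and_eq_true, Bool.not_eq_true'] at hc
  obtain ⟨⟨⟨⟨⟨⟨a1, a2⟩, b1⟩, b2⟩, ab1⟩, ab2⟩, hc⟩ := hc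
  replace a1 := ne_of_beq_false a1; replace a2 := ne_of_beq_false a2
  replace b1 := ne_of_beq_false b1; replace b2 := ne_of_beq_false b2
  replace ab1 := ne_of_beq_false ab1; replace ab2 := ne_of_beq_false ab2
  split at hc
  swap; · exact absurd hc Bool.false_ne_true
  rename_i c hfilt
  simp only [Bool.and_eq_true, Bool.or_eq_true, Nat.beq_eq, decide_eq_true_eq] at hc
  obtain ⟨⟨hcs, hcoef⟩, hexp⟩ := hc
  obtain ⟨pre, post, hl, hpre, -, hpost⟩ := List.filter_eq_cons_iff.1 hfilt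
  rw [List.filter_eq_nil_iff] at hpost
  have hJ2 := hP i hi j hj
  have hiJ2 : i ∈ ({i, j} : Set ℕ) := Set.mem_insert i _
  -- every value is attained
  obtain ⟨u, v, huv⟩ : ∃ u v : F, (tEval u v c).2 = t := by
    have hc0 : ((c.2.1 : ℤ) : F) ≠ 0 := by rcases hcoef with h | h <;> simp [h]
    rcases hexp with h | h
    · exact ⟨-(((c.2.1 : ℤ) : F)⁻¹ * t), 1, by simp [tEval, h, mul_inv_cancel_left₀ hc0]⟩
    · exact ⟨-1, ((c.2.1 : ℤ) : F)⁻¹ * t, by simp [tEval, h, mul_inv_cancel_left₀ hc0]⟩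
  have hother : ∀ (l : List (ℕ × ℤ × ℕ × ℕ)), (∀ q ∈ l, q ∈ tTerms T a b) →
      (∀ q ∈ l, ¬(Nat.beq q.1 (T.simp' i) || Nat.beq q.1 (T.neg (T.simp' i))) = true) →
      g * xword R.x (l.map (tEval u v)) * g⁻¹ =
        xword R.x (l.map fun q => (σ q.1, χ q.1 * (tEval u v q).2)) := by
    intro l
    induction l with
    | nil => intros; simp [xword]
    | cons q l ih =>
      intro hq1 hq2
      have hq := hq1 q (List.mem_cons_self ..)
      obtain ⟨hq0, -, -, hw⟩ := tTerms_lt C ha hb q hq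
      have hne := hq2 q (List.mem_cons_self ..)
      simp only [Bool.or_eq_true, Nat.beq_eq, not_or] at hne
      simp only [List.map_cons, xword_cons]
      rw [← ih (fun q' h => hq1 q' (List.mem_cons_of_mem _ h)) (fun q' h => hq2 q' (List.mem_cons_of_mem _ h)),
        ← hoff _ hJ2 hiJ2 q.1 (inRootSub_comb K hq0 hw haJ hbJ) hne.1 hne.2]
      simp only [tEval]
      group
  have hσab : σ b ≠ σ a ∧ σ b ≠ T.neg (σ a) := ⟨fun e => ab1 (hσinj b hb a ha e), fun e => ab2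
    (hσinj b hb _ (C.spec.neg_lt a ha) (e.trans (hσneg a ha).symm))⟩
  have e1 := hJ2.comm a b haJ hbJ ab1 ab2 u v
  have e2 := hJ2.comm (σ a) (σ b) (hσJ _ hiJ2 a haJ) (hσJ _ hiJ2 b hbJ) hσab.1 hσab.2 (χ a * u) (χ b * v)
  rw [hT a ha b hb, ← hoff _ hJ2 hiJ2 a haJ a1 a2, ← hoff _ hJ2 hiJ2 b hbJ b1 b2] at e2
  have e3 : g * xword R.x ((tTerms T a b).map (tEval u v)) * g⁻¹ =
      xword R.x ((tTerms T a b).map fun q => (σ q.1, χ q.1 * (tEval u v q).2)) := by
    rw [← e1, ← e2]; group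
  rw [hl] at e3
  simp only [List.map_append, List.map_cons, xword_append, xword_cons] at e3
  have hl1 : ∀ q ∈ pre, q ∈ tTerms T a b := fun q hq => by rw [hl]; exact List.mem_append_left _ hq
  have hl2 : ∀ q ∈ post, q ∈ tTerms T a b := fun q hq => by
    rw [hl]; exact List.mem_append_right _ (List.mem_cons_of_mem _ hq)
  rw [← hother pre hl1 hpre, ← hother post hl2 hpost] at e3
  simp only [tEval] at e3 huv
  rw [huv, hcs] at e3
  refine mul_left_cancel (a := g * xword R.x (pre.map (tEval u v)) * g⁻¹)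
    (mul_right_cancel (b := g * xword R.x (post.map (tEval u v)) * g⁻¹) ?_)
  refine Eq.trans ?_ (e3.trans ?_) <;> group

theorem n_mv (hS : chkSelf T = true) {J : Set ℕ} (hJ : RelsOn R J) (hiJ : i ∈ J) {s : ℕ} (hs : D.InRootSub J s) :
    R.Mv (R.n (T.simp' i) 1) s (T.refl' i s) := by
  have hp := C.spec.simp_lt i hi
  refine hP.conj_generic hi K hS (n_mem_oneSub i 1) (σ := T.refl' i) (χ := fun s => ((T.eta' i s : ℤ) : F))
    (fun J hiJ s hs => inRootSub_refl C hi hiJ hs)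
    (fun a ha b hb e => (refl_eq_iff C.spec hi ha hb).1 e) (fun a ha => C.spec.refl_neg i hi a ha)
    (Or.inr (C.spec.refl_simple i hi)) (fun s hs h1 h2 => (K.refl_pos_iff hi hs h1 h2).symm)
    (fun s _ => eta_ne_zero T i s) (fun s hs t => by rw [hP.π_n hi]; exact nu_conj_xg C hi hs t)
    (fun a ha b hb t u => ?_) hJ hiJ hs
  rw [tTerms_refl C K.comm.three hi ha hb, List.map_map]
  refine List.map_congr_left fun c _ => ?_
  simp only [Function.comp, tEval, Prod.mk.injEq, true_and]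
  have e : ∀ (x : F) (m : ℕ), x * x = 1 → x ^ m * x ^ m = 1 := fun x m h => by rw [← mul_pow, h, one_pow]
  have ea := e _ c.2.2.1 (eta_sq (F := F) T i a)
  have eb := e _ c.2.2.2 (eta_sq (F := F) T i b)
  push_cast
  rw [show -(((T.eta' i a : ℤ) : F) * t) = ((T.eta' i a : ℤ) : F) * -t by ring, mul_pow, mul_pow]
  linear_combination (((T.eta' i c.1 : ℤ) : F) * (c.2.1 : F) * (-t) ^ c.2.2.1 * u ^ c.2.2.2) *
    ((((T.eta' i b : ℤ) : F) ^ c.2.2.2) * ((T.eta' i b : ℤ) : F) ^ c.2.2.2) * ea +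
    (((T.eta' i c.1 : ℤ) : F) * (c.2.1 : F) * (-t) ^ c.2.2.1 * u ^ c.2.2.2) * eb

theorem h_mv (hS : chkSelf T = true) {v : F} (hv : v ≠ 0) {J : Set ℕ} (hJ : RelsOn R J) (hiJ : i ∈ J) {s : ℕ}
    (hs : D.InRootSub J s) : R.Mv (R.h (T.simp' i) v) s s := by
  refine hP.conj_generic hi K hS (h_mem_oneSub i v) (σ := id) (χ := fun s => v ^ T.cartan i s)
    (fun J _ s hs => hs) (fun a _ b _ e => e) (fun a _ => rfl) (Or.inl rfl) (fun s _ _ _ => Iff.rfl)
    (fun s _ => zpow_ne_zero _ hv) (fun s hs t => by rw [hP.π_h hi]; exact hg_simple_conj C hi hs hv t)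
    (fun a ha b hb t u => ?_) hJ hiJ hs
  refine List.map_congr_left fun c hc => ?_
  obtain ⟨-, -, -, hw⟩ := tTerms_lt C ha hb c hc
  simp only [tEval, id_eq, Prod.mk.injEq, true_and]
  rw [hw i hi, zpow_add₀ hv, mul_comm (c.2.2.1 : ℤ), mul_comm (c.2.2.2 : ℤ), zpow_mul, zpow_mul, zpow_natCast,
    zpow_natCast, neg_mul_eq_mul_neg, mul_pow, mul_pow]
  ring

end PairRels

end Cfsg.Lib.Chev
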