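import Cfsg.Agent.Lib.Chev.Presentation.Torus
import Cfsg.Agent.Lib.Chev.NormalForm

/-!
A group generated by root elements satisfying Steinberg's relations: its map to the matrix group has central
kernel inside the subgroup generated by the `h̄_k (v)`.
-/

set_option autoImplicit false
set_option linter.unusedSectionVars false

namespace Cfsg.Lib.Chev

open Cfsg.Lie

variable {D : ChevalleyDatum} {T : Tbl} {F : Type*} [Field F] {C : Cert D T} {X : Type*} [Group X]

theorem RelsOn.pairRels {R : RootMap C F X} (hU : RelsOn R Set.univ) : PairRels R :=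
  fun _ _ _ _ => hU.mono (Set.subset_univ _)

/-- The positive unipotent part. -/
def uPlus (R : RootMap C F X) : Subgroup X := ub R Set.univ false (D.nroots / 2)

/-- The products `u n u'`. -/
def bigCell (R : RootMap C F X) : Set X :=
  {g | ∃ u ∈ uPlus R, ∃ w, IsWord D w ∧ ∃ h ∈ hSub R, ∃ u' ∈ uPlus R, g = u * nWd R w * h * u'}

variable {R : RootMap C F X} (hU : RelsOn R Set.univ) (K : FullCert D T) (hS : chkSelf T = true)
include hU K hS

theorem uPlus_mem {r : ℕ} (hr : r < D.nroots) (hp : D.nroots ≤ 2 * r) (t : F) : R.x r t ∈ uPlus R :=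
  mem_ub (b := false) (by omega) (inRootSub_univ_iff.2 hr) t

theorem hSub_mv_all {g : X} (hg : g ∈ hSub R) {s : ℕ} (hs : s < D.nroots) : R.Mv g s s := by
  have hP := hU.pairRels
  revert g
  refine C.root_induction (P := fun s => ∀ {g : X}, g ∈ hSub R → R.Mv g s s) ?_ ?_ s hs
  · intro m hm g hg
    exact hP.hSub_mv K hS hg hm hm (inRootSub_simple C hm (Set.mem_insert m _))
  · intro m hm r hr ih g hg
    have hn := hP.n_mv hm K hS hU (Set.mem_univ m) (inRootSub_univ_iff.2 hr)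
    have := (hn.inv.mul (ih (hP.hSub_conj K hS hm hg).2)).mul hn
    rwa [show R.n (T.simp' m) 1 * ((R.n (T.simp' m) 1)⁻¹ * g * R.n (T.simp' m) 1 * (R.n (T.simp' m) 1)⁻¹) = g by
      group] at this

theorem π_nWd {w : List ℕ} (hw : IsWord D w) : R.π (nWd R w) = wnu C F w := by
  induction w with
  | nil => simp [nWd, wnu]
  | cons i w ih => rw [nWd_cons, map_mul, ih hw.tail.2, hU.pairRels.π_n hw.tail.1, wnu_cons]; rfl

theorem nWd_mv {w : List ℕ} (hw : IsWord D w) {s : ℕ} (hs : s < D.nroots) : R.Mv (nWd R w) s (wperm T w s) := by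
  induction w with
  | nil => exact RootMap.Mv.one s
  | cons i w ih =>
    rw [nWd_cons]
    exact (ih hw.tail.2).mul (hU.pairRels.n_mv hw.tail.1 K hS hU (Set.mem_univ i)
      (inRootSub_univ_iff.2 (wperm_lt C hw.tail.2 hs)))

theorem nWd_conj_h {w : List ℕ} (hw : IsWord D w) {g : X} (hg : g ∈ hSub R) :
    nWd R w * g * (nWd R w)⁻¹ ∈ hSub R ∧ (nWd R w)⁻¹ * g * nWd R w ∈ hSub R := by
  induction w generalizing g with
  | nil => simp [nWd, hg]
  | cons i w ih =>
    constructor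
    · have := (hU.pairRels.hSub_conj K hS hw.tail.1 (ih hw.tail.2 hg).1).1
      rw [nWd_cons]
      simpa [mul_assoc] using this
    · have := (ih hw.tail.2 (hU.pairRels.hSub_conj K hS hw.tail.1 hg).2).2
      rw [nWd_cons]
      simpa [mul_assoc] using this

theorem nWd_conj_n {w : List ℕ} (hw : IsWord D w) {r : ℕ} (hr : r < D.nroots) {v : F} (hv : v ≠ 0) :
    ∃ u : F, u ≠ 0 ∧ nWd R w * R.n r v * (nWd R w)⁻¹ = R.n (wperm T w r) u := by
  induction w with
  | nil => exact ⟨v, hv, by simp [nWd, wperm]⟩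
  | cons i w ih =>
    obtain ⟨u, hu, e⟩ := ih hw.tail.2
    refine ⟨(T.eta' i (wperm T w r) : ℤ) * u, mul_ne_zero (eta_ne_zero T _ _) hu, ?_⟩
    rw [nWd_cons, show R.n (T.simp' i) 1 * nWd R w * R.n r v * (R.n (T.simp' i) 1 * nWd R w)⁻¹ =
      R.n (T.simp' i) 1 * (nWd R w * R.n r v * (nWd R w)⁻¹) * (R.n (T.simp' i) 1)⁻¹ by group, e,
      hU.pairRels.n_conj_n K hS hw.tail.1 hU (Set.mem_univ i) (inRootSub_univ_iff.2 (wperm_lt C hw.tail.2 hr))]
    rfl

theorem nWd_exchange {k : ℕ} (hk : k < D.rank) : ∀ {w : List ℕ}, IsWord D w →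
    2 * wperm T w (T.simp' k) < D.nroots →
    ∃ v, IsWord D v ∧ v.length + 1 = w.length ∧ ∃ h ∈ hSub R, nWd R w * R.n (T.simp' k) 1 = nWd R v * h := by
  intro w
  induction w with
  | nil =>
    intro _ h
    have := K.simple_pos hk
    simp only [wperm, List.foldr_nil] at h
    omega
  | cons i w ih =>
    intro hw h
    have hi := hw.tail.1
    have hsk := C.spec.simp_lt k hk
    have hP := hU.pairRels
    change 2 * T.refl' i (wperm T w (T.simp' k)) < D.nroots at h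
    by_cases hpos : D.nroots ≤ 2 * wperm T w (T.simp' k)
    · have hβp : wperm T w (T.simp' k) = T.simp' i := by
        by_contra hne
        have := K.refl_pos hi (wperm_lt C hw.tail.2 hsk) hpos hne
        omega
      refine ⟨w, hw.tail.2, rfl, ?_⟩
      obtain ⟨u, hu, hconj⟩ := nWd_conj_n hU K hS hw.tail.2 hsk (v := (1 : F)) one_ne_zero
      rw [hβp, ← hP.h_mul_n hi u, mul_inv_eq_iff_eq_mul] at hconj
      have hm : (R.n (T.simp' i) 1 * R.h (T.simp' i) u * (R.n (T.simp' i) 1)⁻¹) * (R.h (T.simp' i) (-1))⁻¹ ∈ hSub R :=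
        mul_mem (hP.hSub_conj K hS hi (RootMap.hSub_mem_h hi hu)).1
          (inv_mem (RootMap.hSub_mem_h hi (neg_ne_zero.2 one_ne_zero)))
      refine ⟨_, (nWd_conj_h hU K hS hw.tail.2 hm).2, ?_⟩
      rw [nWd_cons, mul_assoc, hconj, ← hP.n_sq hi]
      group
    · obtain ⟨v, hv, hlen, d, hd, e⟩ := ih hw.tail.2 (by omega)
      exact ⟨i :: v, hv.cons hi, by simp [hlen], d, hd, by rw [nWd_cons, nWd_cons, mul_assoc, e, mul_assoc]⟩

theorem nWd_kernel : ∀ (n : ℕ) {w : List ℕ}, w.length = n → IsWord D w →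
    (∀ k < D.rank, D.nroots ≤ 2 * wperm T w (T.simp' k)) → nWd R w ∈ hSub R := by
  intro n
  induction n using Nat.strong_induction_on with
  | _ n ih =>
    intro w hn hw hpos
    rcases w.eq_nil_or_concat' with rfl | ⟨w', k, rfl⟩
    · rw [nWd_nil]; exact one_mem _
    have hk : k < D.rank := hw k (by simp)
    have hw' : IsWord D w' := fun j hj => hw j (List.mem_append_left _ hj)
    have hsk := C.spec.simp_lt k hk
    have h := hpos k hk
    rw [wperm_append] at h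
    change D.nroots ≤ 2 * wperm T w' (T.refl' k (T.simp' k)) at h
    rw [C.spec.refl_simple k hk, wperm_neg C hw' hsk, K.neg_pos_iff (wperm_lt C hw' hsk)] at h
    obtain ⟨v, hv, hlen, d, hd, e⟩ := nWd_exchange hU K hS hk hw' h
    have hw2 : nWd R (w' ++ [k]) = nWd R v * d := by rw [nWd_append, ← e]; simp [nWd]
    rw [hw2]
    refine mul_mem (ih v.length (by simp at hn; omega) rfl hv fun j hj => ?_) hd
    have e2 : (wnu C F v)⁻¹ * wnu C F (w' ++ [k]) = R.π d := by
      rw [← π_nWd hU K hS hw, hw2, map_mul, π_nWd hU K hS hv, inv_mul_cancel_left]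
    rw [perm_of_same C hv hw (e2 ▸ hU.pairRels.π_hSub K hS hd) (C.spec.simp_lt j hj)]
    exact hpos j hj

theorem uPlus_conj {g : X} (hg : g ∈ hSub R) {u : X} (hu : u ∈ uPlus R) : g * u * g⁻¹ ∈ uPlus R := by
  refine conj_mem_of_gens ?_ hu
  rintro a ⟨r, t, hr, hrJ, rfl⟩
  obtain ⟨c, -, hc⟩ := hSub_mv_all hU K hS hg (s := r) hrJ.1
  change g * R.x r t * g⁻¹ ∈ _
  rw [(hc t).2]
  exact mem_ub (b := false) hr hrJ _

theorem uPlus_decomp {i : ℕ} (hi : i < D.rank) {u : X} (hu : u ∈ uPlus R) :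
    ∃ v ∈ rad R Set.univ false i, ∃ t : F, u = v * R.x (T.simp' i) t := by
  have hp := inRootSub_univ_iff.2 (C.spec.simp_lt i hi)
  have hone : ∀ t : F, R.x (T.simp' i) t ∈ oneSub R i := fun t => Subgroup.subset_closure ⟨_, t, Or.inl rfl, rfl⟩
  induction hu using Subgroup.closure_induction with
  | mem a ha =>
    obtain ⟨r, t, hr, hrJ, rfl⟩ := ha
    change ∃ v ∈ rad R Set.univ false i, ∃ t', R.x r t = v * R.x (T.simp' i) t'
    by_cases hri : r = T.simp' i
    · subst hri; exact ⟨1, one_mem _, t, (one_mul _).symm⟩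
    · have := hrJ.1
      have := nroots_even C
      exact ⟨_, Subgroup.subset_closure ⟨r, t, hrJ, by omega, hri, rfl⟩, 0,
        by simp [hU.x_zero hp, sd]⟩
  | one => exact ⟨1, one_mem _, 0, by rw [hU.x_zero hp, one_mul]⟩
  | mul a b _ _ ha hb =>
    obtain ⟨v, hv, t, rfl⟩ := ha
    obtain ⟨v', hv', t', rfl⟩ := hb
    refine ⟨v * (R.x (T.simp' i) t * v' * (R.x (T.simp' i) t)⁻¹),
      mul_mem hv (hU.conj_rad K hi (Set.mem_univ i) _ (hone t) hv'), t + t', ?_⟩
    rw [← hU.add _ hp]; group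
  | inv a _ ha =>
    obtain ⟨v, hv, t, rfl⟩ := ha
    refine ⟨R.x (T.simp' i) (-t) * v⁻¹ * (R.x (T.simp' i) (-t))⁻¹,
      hU.conj_rad K hi (Set.mem_univ i) _ (hone _) (inv_mem hv), -t, ?_⟩
    rw [← hU.x_inv hp]; group

omit hS in
theorem x_neg_eq {i : ℕ} (hi : i < D.rank) {z : F} (hz : z ≠ 0) :
    R.x (T.neg (T.simp' i)) z = R.x (T.simp' i) z⁻¹ * R.n (T.simp' i) (-z⁻¹) * R.x (T.simp' i) z⁻¹ := by
  have hp := inRootSub_univ_iff.2 (C.spec.simp_lt i hi)
  rw [RootMap.n, ← hU.x_inv hp, inv_neg, inv_inv, neg_neg]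
  group

theorem n_mul_bigCell {i : ℕ} (hi : i < D.rank) {z : X} (hz : z ∈ bigCell R) :
    R.n (T.simp' i) 1 * z ∈ bigCell R := by
  have hP := hU.pairRels
  have hp := C.spec.simp_lt i hi
  have hpJ := inRootSub_univ_iff.2 hp
  have hnp := C.spec.neg_lt _ hp
  obtain ⟨u, hu, w, hw, h, hh, u', hu', rfl⟩ := hz
  obtain ⟨v, hv, t, rfl⟩ := uPlus_decomp hU K hS hi hu
  have hv' : R.n (T.simp' i) 1 * v * (R.n (T.simp' i) 1)⁻¹ ∈ uPlus R :=
    rad_le_ub _ _ (hU.conj_rad K hi (Set.mem_univ i) _ (PairRels.n_mem_oneSub i 1) hv)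
  let σ := wperm T w.reverse (T.simp' i)
  have hσ : σ < D.nroots := wperm_lt C hw.reverse hp
  have hwσ : wperm T w σ = T.simp' i := by
    have := wperm_reverse C hw.reverse hp
    rwa [List.reverse_reverse] at this
  obtain ⟨c, hc, hct⟩ := nWd_mv hU K hS hw hσ
  rw [hwσ] at hct
  have hxW : ∀ a : F, R.x (T.simp' i) a * nWd R w = nWd R w * R.x σ (c⁻¹ * a) := fun a => by
    have := (hct (c⁻¹ * a)).2
    rw [← mul_assoc c, mul_inv_cancel₀ hc, one_mul] at this
    rw [← this]; group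
  by_cases hcase : t = 0 ∨ D.nroots ≤ 2 * σ
  · have hx : R.x σ (c⁻¹ * t) ∈ uPlus R := by
      rcases hcase with rfl | hpos
      · rw [mul_zero, hU.x_zero (inRootSub_univ_iff.2 hσ)]; exact one_mem _
      · exact uPlus_mem hU K hS hσ hpos _
    refine ⟨_, hv', i :: w, hw.cons hi, h, hh, h⁻¹ * R.x σ (c⁻¹ * t) * h * u',
      mul_mem (by simpa using uPlus_conj hU K hS (inv_mem hh) hx) hu', ?_⟩
    rw [nWd_cons, show R.n (T.simp' i) 1 * (v * R.x (T.simp' i) t * nWd R w * h * u') =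
      R.n (T.simp' i) 1 * v * (R.x (T.simp' i) t * nWd R w) * h * u' by group, hxW]
    group
  · push Not at hcase
    obtain ⟨ht, hneg⟩ := hcase
    obtain ⟨c', hc', hct'⟩ := nWd_mv hU K hS hw (C.spec.neg_lt σ hσ)
    rw [wperm_neg C hw hσ, hwσ] at hct'
    have hyW : ∀ a : F, R.x (T.neg (T.simp' i)) a * nWd R w = nWd R w * R.x (T.neg σ) (c'⁻¹ * a) := fun a => by
      have := (hct' (c'⁻¹ * a)).2
      rw [← mul_assoc c', mul_inv_cancel₀ hc', one_mul] at this
      rw [← this]; group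
    have hmv := hP.n_mv hi K hS hU (Set.mem_univ i) hpJ
    rw [C.spec.refl_simple i hi] at hmv
    have hsx : ∀ b : F, R.n (T.simp' i) 1 * R.x (T.simp' i) b = R.x (T.neg (T.simp' i)) (-b) * R.n (T.simp' i) 1 := by
      intro b
      have := nu_conj_xg C hi hp b
      rw [C.spec.refl_simple i hi, C.spec.eta_simple i hi, nu, ← hP.π_n hi] at this
      push_cast at this
      rw [neg_one_mul] at this
      exact mul_inv_eq_iff_eq_mul.1 (hmv.eq hnp this)
    let a : F := (-t)⁻¹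
    have ha : a ≠ 0 := inv_ne_zero (neg_ne_zero.2 ht)
    let d : X := (nWd R w)⁻¹ * (R.n (T.simp' i) 1 * R.n (T.simp' i) 1) * nWd R w
    have hd : d ∈ hSub R := (nWd_conj_h hU K hS hw (by
      rw [hP.n_sq hi]; exact inv_mem (RootMap.hSub_mem_h hi (neg_ne_zero.2 one_ne_zero)))).2
    have hha : R.h (T.simp' i) (-a) ∈ hSub R := RootMap.hSub_mem_h hi (neg_ne_zero.2 ha)
    have hdh : d * h ∈ hSub R := mul_mem hd hh
    have e1 : R.n (T.simp' i) 1 * R.x (T.simp' i) t * nWd R w =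
        R.x (T.simp' i) a * R.h (T.simp' i) (-a) * nWd R w * R.x (T.neg σ) (c'⁻¹ * -a) * d := by
      rw [hsx, x_neg_eq hU K hi (neg_ne_zero.2 ht), ← hP.h_mul_n hi (-a)]
      calc R.x (T.simp' i) a * (R.h (T.simp' i) (-a) * R.n (T.simp' i) 1) * R.x (T.simp' i) a * R.n (T.simp' i) 1 *
            nWd R w
          = R.x (T.simp' i) a * R.h (T.simp' i) (-a) * (R.n (T.simp' i) 1 * R.x (T.simp' i) a) * R.n (T.simp' i) 1 *
              nWd R w := by group
        _ = R.x (T.simp' i) a * R.h (T.simp' i) (-a) * (R.x (T.neg (T.simp' i)) (-a) * nWd R w) * d := by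
            rw [hsx]; simp only [d]; group
        _ = _ := by rw [hyW]; group
    have hxh : ∀ g ∈ hSub R, ∀ y ∈ uPlus R, g⁻¹ * y * g ∈ uPlus R := fun g hg y hy => by
      simpa using uPlus_conj hU K hS (inv_mem hg) hy
    refine ⟨R.n (T.simp' i) 1 * v * (R.n (T.simp' i) 1)⁻¹ * R.x (T.simp' i) a,
      mul_mem hv' (uPlus_mem hU K hS hp (K.simple_pos hi) _), w, hw,
      ((nWd R w)⁻¹ * R.h (T.simp' i) (-a) * nWd R w) * (d * h), mul_mem (nWd_conj_h hU K hS hw hha).2 hdh,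
      (d * h)⁻¹ * R.x (T.neg σ) (c'⁻¹ * -a) * (d * h) * u',
      mul_mem (hxh _ hdh _ (uPlus_mem hU K hS (C.spec.neg_lt σ hσ) ((K.neg_pos_iff hσ).2 hneg) _)) hu', ?_⟩
    calc R.n (T.simp' i) 1 * (v * R.x (T.simp' i) t * nWd R w * h * u')
        = R.n (T.simp' i) 1 * v * (R.n (T.simp' i) 1)⁻¹ * (R.n (T.simp' i) 1 * R.x (T.simp' i) t * nWd R w) * h * u' := by
          group
      _ = _ := by rw [e1]; group

theorem bigCell_eq_univ (hgen : Subgroup.closure {g | ∃ (r : ℕ) (t : F), r < D.nroots ∧ g = R.x r t} = ⊤) :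
    bigCell R = Set.univ := by
  have hP := hU.pairRels
  have h1 : (1 : X) ∈ bigCell R :=
    ⟨1, one_mem _, [], fun i hi => absurd hi List.not_mem_nil, 1, one_mem _, 1, one_mem _, by simp [nWd]⟩
  have hx : ∀ i < D.rank, ∀ (t : F), ∀ z ∈ bigCell R, R.x (T.simp' i) t * z ∈ bigCell R := by
    rintro i hi t _ ⟨u, hu, w, hw, h, hh, u', hu', rfl⟩
    exact ⟨R.x (T.simp' i) t * u, mul_mem (uPlus_mem hU K hS (C.spec.simp_lt i hi) (K.simple_pos hi) t) hu,
      w, hw, h, hh, u', hu', by group⟩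
  have hh' : ∀ g ∈ hSub R, ∀ z ∈ bigCell R, g * z ∈ bigCell R := by
    rintro g hg _ ⟨u, hu, w, hw, h, hh, u', hu', rfl⟩
    exact ⟨g * u * g⁻¹, uPlus_conj hU K hS hg hu, w, hw, (nWd R w)⁻¹ * g * nWd R w * h,
      mul_mem (nWd_conj_h hU K hS hw hg).2 hh, u', hu', by group⟩
  let S : Subgroup X := {
    carrier := {g | ∀ z ∈ bigCell R, g * z ∈ bigCell R ∧ g⁻¹ * z ∈ bigCell R}
    one_mem' := fun z hz => by simp [hz]
    mul_mem' := fun {a b} ha hb z hz => ⟨by rw [mul_assoc]; exact (ha _ (hb z hz).1).1,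
      by rw [mul_inv_rev, mul_assoc]; exact (hb _ (ha z hz).2).2⟩
    inv_mem' := fun {a} ha z hz => ⟨(ha z hz).2, by rw [inv_inv]; exact (ha z hz).1⟩ }
  have hSx : ∀ i < D.rank, ∀ t : F, R.x (T.simp' i) t ∈ S := fun i hi t z hz =>
    ⟨hx i hi t z hz, by rw [hU.x_inv (inRootSub_univ_iff.2 (C.spec.simp_lt i hi))]; exact hx i hi _ z hz⟩
  have hSn : ∀ i < D.rank, R.n (T.simp' i) 1 ∈ S := fun i hi z hz => ⟨n_mul_bigCell hU K hS hi hz, by
    rw [hP.n_inv hi, ← hP.h_mul_n hi, mul_assoc]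
    exact hh' _ (RootMap.hSub_mem_h hi (neg_ne_zero.2 one_ne_zero)) _ (n_mul_bigCell hU K hS hi hz)⟩
  have hall : ∀ r < D.nroots, ∀ t : F, R.x r t ∈ S := by
    refine C.root_induction hSx fun i hi r hr ih t => ?_
    obtain ⟨c, hc, h⟩ := hP.n_mv hi K hS hU (Set.mem_univ i) (inRootSub_univ_iff.2 hr)
    have := (h (c⁻¹ * t)).2
    rw [← mul_assoc c, mul_inv_cancel₀ hc, one_mul] at this
    rw [← this]
    exact mul_mem (mul_mem (hSn i hi) (ih _)) (inv_mem (hSn i hi))
  have hle : (⊤ : Subgroup X) ≤ S := by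
    rw [← hgen, Subgroup.closure_le]
    rintro g ⟨r, t, hr, rfl⟩
    exact hall r hr t
  exact Set.eq_univ_of_forall fun g => by simpa using (hle (Subgroup.mem_top g) 1 h1).1

theorem ker_le_hSub (hgen : Subgroup.closure {g | ∃ (r : ℕ) (t : F), r < D.nroots ∧ g = R.x r t} = ⊤) {g : X}
    (hg : R.π g = 1) : g ∈ hSub R ∧ g ∈ Subgroup.center X := by
  have hP := hU.pairRels
  obtain ⟨u, hu, w, hw, h, hh, u', hu', e⟩ :
      g ∈ bigCell R := by rw [bigCell_eq_univ hU K hS hgen]; trivial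
  have hπu : ∀ {y}, y ∈ uPlus R → R.π y ∈ D.posUnipotent F := by
    intro y hy
    suffices hle : uPlus R ≤ (D.posUnipotent F).comap R.π from hle hy
    refine (Subgroup.closure_le _).2 ?_
    rintro a ⟨r, t, hr, hrJ, rfl⟩
    show R.π (R.x r t) ∈ D.posUnipotent F
    have := nroots_even C
    rw [hU.proj r hrJ]
    exact xg_mem_pos C hrJ.1 (by omega) t
  have hmid : R.π (nWd R w * h) ∈ D.posUnipotent F ⊓ D.monomialSubgroup F := by
    refine Subgroup.mem_inf.2 ⟨?_, ?_⟩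
    · have h2 : R.π u * R.π (nWd R w * h) * R.π u' = 1 := by
        rw [← map_mul, ← map_mul, ← mul_assoc u, ← e, hg]
      have : R.π (nWd R w * h) = (R.π u)⁻¹ * (R.π u')⁻¹ := by
        generalize R.π (nWd R w * h) = m at h2 ⊢
        calc m = (R.π u)⁻¹ * (R.π u * m * R.π u') * (R.π u')⁻¹ := by group
          _ = _ := by rw [h2]; group
      rw [this]
      exact Subgroup.mul_mem _ (Subgroup.inv_mem _ (hπu hu)) (Subgroup.inv_mem _ (hπu hu'))
    · rw [map_mul, π_nWd hU K hS hw]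
      exact mul_mem (wnu_mem C hw) (diag_le_monomial C (hP.π_hSub K hS hh))
  rw [pos_inf_monomial C, Subgroup.mem_bot] at hmid
  have huu : u' = u⁻¹ := by
    refine hU.ub_inj K false hu' (inv_mem hu) ?_
    rw [e, map_mul, mul_assoc u, map_mul, hmid, mul_one, mul_eq_one_iff_eq_inv] at hg
    rw [map_inv, hg, inv_inv]
  have hN : nWd R w ∈ hSub R := by
    refine nWd_kernel hU K hS _ rfl hw fun k hk => ?_
    have hwn : wnu C F w ∈ D.diagonalSubgroup F := by
      rw [map_mul, π_nWd hU K hS hw, mul_eq_one_iff_eq_inv] at hmid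
      rw [hmid]
      exact inv_mem (hP.π_hSub K hS hh)
    rw [← perm_of_same C (v := []) (fun i hi => absurd hi List.not_mem_nil) hw (by simpa [wnu] using hwn)
      (C.spec.simp_lt k hk)]
    exact K.simple_pos hk
  have hmem : nWd R w * h ∈ hSub R := mul_mem hN hh
  have hcomm : ∀ y : X, y * (nWd R w * h) = (nWd R w * h) * y := by
    intro y
    have hy : y ∈ Subgroup.centralizer {nWd R w * h} := by
      refine (show (⊤ : Subgroup X) ≤ _ from ?_) (Subgroup.mem_top y)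
      rw [← hgen, Subgroup.closure_le]
      rintro a ⟨r, t, hr, rfl⟩
      rw [SetLike.mem_coe, Subgroup.mem_centralizer_singleton_iff]
      exact (mul_inv_eq_iff_eq_mul.1 ((hSub_mv_all hU K hS hmem hr).eq hr (t := t) (by rw [hmid]; simp))).symm
    exact Subgroup.mem_centralizer_singleton_iff.1 hy
  have hge : g = nWd R w * h := by
    rw [e, huu, mul_assoc u, hcomm u, mul_inv_cancel_right]
  rw [hge]
  exact ⟨hmem, Subgroup.mem_center_iff.2 hcomm⟩

end Cfsg.Lib.Chev
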