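import Cfsg.Agent.Lib.Chev.Presentation.Conj
import Cfsg.Agent.Lib.Chev.FullAll

/-! The rank-one certificates of the seven tables. -/

set_option autoImplicit false
set_option maxRecDepth 100000

namespace Cfsg.Lib.Chev

open Cfsg.Lie

theorem chkSelf_G2 : chkSelf tblG2 = true := by decide +kernel

theorem chkSelf_B2 : chkSelf tblB2 = true := by decide +kernel

theorem chkSelf_D4 : chkSelf tblD4 = true := by decide +kernel

theorem chkSelf_F4 : chkSelf tblF4 = true := by decide +kernel

theorem chkSelf_E6 : chkSelf tblE6 = true := by decide +kernel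

theorem chkSelf_E7 : chkSelf tblE7 = true := by decide +kernel

theorem chkSelf_E8 : chkSelf tblE8 = true := by decide +kernel

theorem exists_selfCert {D : ChevalleyDatum}
    (hD : D ∈ [chevG2, chevB2, chevD4, chevF4, chevE6, chevE7, chevE8]) :
    ∃ T, FullCert D T ∧ chkSelf T = true := by
  simp only [List.mem_cons, List.not_mem_nil, or_false] at hD
  rcases hD with rfl | rfl | rfl | rfl | rfl | rfl | rfl
  exacts [⟨_, fullCertG2, chkSelf_G2⟩, ⟨_, fullCertB2, chkSelf_B2⟩, ⟨_, fullCertD4, chkSelf_D4⟩,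
    ⟨_, fullCertF4, chkSelf_F4⟩, ⟨_, fullCertE6, chkSelf_E6⟩, ⟨_, fullCertE7, chkSelf_E7⟩, ⟨_, fullCertE8, chkSelf_E8⟩]

end Cfsg.Lib.Chev
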