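import Cfsg.Prelude.Def_Steinberg
import Cfsg.Agent.Lib.Chev.Torus
import Cfsg.Agent.Lib.Chev.Presentation.Kernel
import Cfsg.Agent.Lib.Chev.Presentation.SelfCerts

/-!
Steinberg's presentation: the map onto the Chevalley group and its kernel.
-/

set_option autoImplicit false
set_option linter.unusedSectionVars false

namespace Cfsg.Lib.Chev

open Cfsg.Lie

variable {D : ChevalleyDatum} {T : Tbl} {F : Type*} [Field F]

section Words

variable {G : Type*} [Group G] (f : Fin D.nroots × F → G)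

theorem lift_stX {r : ℕ} (hr : r < D.nroots) (t : F) : FreeGroup.lift f (D.stX r t) = f (⟨r, hr⟩, t) := by
  rw [ChevalleyDatum.stX, dif_pos hr, FreeGroup.lift_apply_of]

theorem map_stWord {H : Type*} [Group H] (φ : FreeGroup (Fin D.nroots × F) →* H) (w : List (ℕ × F)) :
    φ (D.stWord w) = xword (fun r t => φ (D.stX r t)) w := by
  rw [ChevalleyDatum.stWord, map_list_prod, List.map_map]
  rfl

end Words

/-- The generators of the presented group, extended by `1`. -/
def stRootMap (C : Cert D T) (π : D.SteinbergGroup F →* GL D.Idx F) : RootMap C F (D.SteinbergGroup F) :=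
  ⟨D.stGen F, π⟩

section

variable (C : Cert D T)
include C

theorem xg_relators (K : CommCert D T) : ∀ g ∈ D.steinbergRels F,
    FreeGroup.lift (fun p : Fin D.nroots × F => xg C (p.1 : ℕ) p.2) g = 1 := by
  have hx : ∀ r t, FreeGroup.lift (fun p : Fin D.nroots × F => xg C (p.1 : ℕ) p.2) (D.stX r t) = xg C r t := by
    intro r t
    by_cases hr : r < D.nroots
    · exact lift_stX _ hr t
    · rw [ChevalleyDatum.stX, dif_neg hr, map_one, xg_out C hr]
  rintro g ((⟨r, t, u, -, rfl⟩ | ⟨r, s, t, u, hr, hs, h1, h2, rfl⟩) | ⟨r, t, u, hr, ht, hu, rfl⟩)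
  · rw [map_mul, map_mul, map_inv, hx, hx, hx, xg_add, mul_inv_cancel]
  · rw [C.spec.shape.neg_eq r hr] at h2
    simp only [map_mul, map_inv, hx, map_stWord]
    have e := comm_xg_prod C K hr hs h1 h2 t u
    rw [commutatorElement_def, inv_inv, inv_inv] at e
    rw [mul_inv_eq_one, commWord_eq C hr hs, e, xword, List.map_map]
    rfl
  · have hh : ∀ v : F, FreeGroup.lift (fun p : Fin D.nroots × F => xg C (p.1 : ℕ) p.2) (D.stH r v) = hg C r v := by
      intro v
      rw [ChevalleyDatum.stH, map_stWord]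
      simp only [xword, hx, ChevalleyDatum.hWord, ChevalleyDatum.nWord, List.cons_append, List.nil_append,
        List.map_cons, List.map_nil, List.prod_cons, List.prod_nil, mul_one, hg, ng, mul_assoc]
    rw [map_mul, map_mul, map_inv, hh, hh, hh, hg_mul C hr ht hu, mul_inv_cancel]

/-- The map to the matrix group. -/
noncomputable def stHom (K : CommCert D T) : D.SteinbergGroup F →* GL D.Idx F :=
  PresentedGroup.toGroup (xg_relators C K)

theorem stHom_gen (K : CommCert D T) {r : ℕ} (hr : r < D.nroots) (t : F) :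
    stHom C K (D.stGen F r t) = xg C r t := by
  rw [ChevalleyDatum.stGen, ChevalleyDatum.stX, dif_pos hr]
  exact PresentedGroup.toGroup.of _

theorem stMk_stWord (w : List (ℕ × F)) :
    PresentedGroup.mk (D.steinbergRels F) (D.stWord w) = xword (D.stGen F) w := map_stWord _ w

theorem stGen_closure :
    Subgroup.closure {g : D.SteinbergGroup F | ∃ (r : ℕ) (t : F), r < D.nroots ∧ g = D.stGen F r t} = ⊤ := by
  refine top_le_iff.1 ?_
  rw [← PresentedGroup.closure_range_of (D.steinbergRels F), Subgroup.closure_le]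
  rintro _ ⟨⟨r, t⟩, rfl⟩
  refine Subgroup.subset_closure ⟨r, t, r.2, ?_⟩
  rw [ChevalleyDatum.stGen, ChevalleyDatum.stX, dif_pos r.2]
  rfl

theorem stRels_rel {π : D.SteinbergGroup F →* GL D.Idx F} (hπ : ∀ r < D.nroots, ∀ t, π (D.stGen F r t) = xg C r t) :
    RelsOn (stRootMap C π) Set.univ where
  add r hr t u := by
    have h := PresentedGroup.one_of_mem (rels := D.steinbergRels F) (x := D.stX r t * D.stX r u * (D.stX r (t + u))⁻¹)
      (Or.inl (Or.inl ⟨r, t, u, hr.1, rfl⟩))
    rw [map_mul, map_mul, map_inv, mul_inv_eq_one] at h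
    exact h
  comm r s hr hs h1 h2 t u := by
    have h := PresentedGroup.one_of_mem (rels := D.steinbergRels F)
      (x := (D.stX s u)⁻¹ * (D.stX r t)⁻¹ * D.stX s u * D.stX r t * (D.stWord (D.commWord F r s t u))⁻¹)
      (Or.inl (Or.inr ⟨r, s, t, u, hr.1, hs.1, h1, by rwa [C.spec.shape.neg_eq r hr.1], rfl⟩))
    simp only [map_mul, map_inv, mul_inv_eq_one, stMk_stWord C, commWord_eq C hr.1 hs.1] at h
    exact h
  proj r hr t := hπ r hr.1 t

theorem stH_eq (π : D.SteinbergGroup F →* GL D.Idx F) {r : ℕ} (hr : r < D.nroots) (v : F) :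
    PresentedGroup.mk (D.steinbergRels F) (D.stH r v) = (stRootMap C π).h r v := by
  rw [ChevalleyDatum.stH, stMk_stWord C]
  simp only [xword, ChevalleyDatum.hWord, ChevalleyDatum.nWord, List.cons_append, List.nil_append,
    List.map_cons, List.map_nil, List.prod_cons, List.prod_nil, mul_one, RootMap.h, RootMap.n, stRootMap, mul_assoc,
    C.spec.shape.neg_eq r hr]

theorem st_h_mul (π : D.SteinbergGroup F →* GL D.Idx F) {r : ℕ} (hr : r < D.nroots) {v w : F} (hv : v ≠ 0)
    (hw : w ≠ 0) : (stRootMap C π).h r v * (stRootMap C π).h r w = (stRootMap C π).h r (v * w) := by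
  have h := PresentedGroup.one_of_mem (rels := D.steinbergRels F) (x := D.stH r v * D.stH r w * (D.stH r (v * w))⁻¹)
    (Or.inr ⟨r, v, w, hr, hv, hw, rfl⟩)
  rw [map_mul, map_mul, map_inv, mul_inv_eq_one, stH_eq C π hr, stH_eq C π hr, stH_eq C π hr] at h
  exact h

variable (K : FullCert D T)
include K

theorem group_center_eq_bot : Subgroup.center ↥(D.group F) = ⊥ := by
  refine le_bot_iff.1 ?_
  rw [← borel_core_eq_bot C K]
  intro z hz g
  rw [Subgroup.mem_center_iff.1 hz g, mul_inv_cancel_right]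
  show (z : GL D.Idx F) ∈ D.borelSubgroup F
  have hP : D.parabolicSubgroup F ∅ ≤ D.borelSubgroup F :=
    sup_le le_rfl ((Subgroup.closure_le _).2 fun x ⟨j, hj, _⟩ => absurd hj (Set.notMem_empty j))
  refine hP ?_
  rw [← normalizer_radical C K (F := F) ∅]
  refine Subgroup.mem_inf.2 ⟨Subgroup.mem_normalizer_iff.2 fun y => ?_, z.2⟩
  have hc : ∀ y ∈ D.unipotentRadical F ∅, (z : GL D.Idx F) * y = y * (z : GL D.Idx F) := fun y hy => by
    have := congrArg Subtype.val (Subgroup.mem_center_iff.1 hz ⟨y, pos_le_group C (radical_le_pos C ∅ hy)⟩)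
    exact this.symm
  constructor
  · intro hy
    rwa [hc y hy, mul_inv_cancel_right]
  · intro hy
    have e : (z : GL D.Idx F) * y * (z : GL D.Idx F)⁻¹ = y := by
      have h2 : (z : GL D.Idx F) * ((z : GL D.Idx F) * y * (z : GL D.Idx F)⁻¹) =
          (z : GL D.Idx F) * y := by rw [hc _ hy, inv_mul_cancel_right]
      exact mul_left_cancel h2
    rwa [e] at hy

theorem stHom_range (π : D.SteinbergGroup F →* GL D.Idx F) (hπ : ∀ r < D.nroots, ∀ t, π (D.stGen F r t) = xg C r t) :
    π.range = D.group F := by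
  rw [MonoidHom.range_eq_map, ← stGen_closure C, MonoidHom.map_closure, ChevalleyDatum.group]
  congr 1
  ext g
  constructor
  · rintro ⟨_, ⟨r, t, hr, rfl⟩, rfl⟩
    exact ⟨⟨r, hr⟩, t, by rw [hπ r hr, coe_xg, ChevalleyDatum.x, dif_pos hr]⟩
  · rintro ⟨r, t, e⟩
    exact ⟨_, ⟨r, t, r.2, rfl⟩, by rw [hπ r r.2, ← eq_xg C (e.trans (by rw [ChevalleyDatum.x, dif_pos r.2]))]⟩

variable (hS : chkSelf T = true)
include hS

theorem st_ker_le (π : D.SteinbergGroup F →* GL D.Idx F) (hπ : ∀ r < D.nroots, ∀ t, π (D.stGen F r t) = xg C r t)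
    {g : D.SteinbergGroup F} (hg : π g = 1) : g ∈ hSub (stRootMap C π) ∧ g ∈ Subgroup.center (D.SteinbergGroup F) :=
  ker_le_hSub (R := stRootMap C π) (stRels_rel C hπ) K hS (stGen_closure C) hg

theorem st_h_comm (π : D.SteinbergGroup F →* GL D.Idx F) (hπ : ∀ r < D.nroots, ∀ t, π (D.stGen F r t) = xg C r t)
    {k i : ℕ} (hk : k < D.rank) (hi : i < D.rank) {v w : F} (hv : v ≠ 0) (hw : w ≠ 0) :
    Commute ((stRootMap C π).h (T.simp' k) v) ((stRootMap C π).h (T.simp' i) w) := by
  have hU := stRels_rel C hπ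
  have hP := hU.pairRels
  have hp := C.spec.simp_lt i hi
  have hz : (v ^ T.cartan k (T.simp' i)) ≠ 0 := zpow_ne_zero _ hv
  have hm := RootMap.hSub_mem_h (R := stRootMap C π) hk hv
  have e : ∀ u : F, (stRootMap C π).h (T.simp' k) v * (stRootMap C π).n (T.simp' i) u *
      ((stRootMap C π).h (T.simp' k) v)⁻¹ = (stRootMap C π).n (T.simp' i) (v ^ T.cartan k (T.simp' i) * u) := by
    intro u
    refine (hSub_mv_all hU K hS hm hp).conj_n (hSub_mv_all hU K hS hm (C.spec.neg_lt _ hp)) hp ?_ ?_ <;>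
      rw [hP.π_h hk]
    · exact hg_simple_conj C hk hp hv u
    · rw [hg_simple_conj C hk (C.spec.neg_lt _ hp) hv, C.spec.cart_neg k hk _ hp, zpow_neg, mul_neg, mul_inv]
  have e2 : (stRootMap C π).h (T.simp' k) v * (stRootMap C π).h (T.simp' i) w * ((stRootMap C π).h (T.simp' k) v)⁻¹ =
      (stRootMap C π).h (T.simp' i) w := by
    conv_lhs => rw [show (stRootMap C π).h (T.simp' i) w =
      (stRootMap C π).n (T.simp' i) w * (stRootMap C π).n (T.simp' i) (-1) from rfl]
    rw [← conj_mul, e, e, mul_neg, mul_one, ← hP.n_inv hi, ← hP.h_mul_n hi, ← hP.h_mul_n hi (v ^ _),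
      mul_inv_rev, mul_assoc, ← mul_assoc ((stRootMap C π).n (T.simp' i) 1), mul_inv_cancel, one_mul,
      ← st_h_mul C π hp hw hz |>.trans (congrArg _ (mul_comm w (v ^ T.cartan k (T.simp' i)))), mul_inv_cancel_right]
  exact mul_inv_eq_iff_eq_mul.1 e2

/-- An inverse of the Cartan matrix. -/
noncomputable def chkInv (T : Tbl) (M : List (List ℤ)) : Bool :=
  allBelow (fun k => allBelow (fun j => decide
    (((List.range T.rank).map fun m => (M.getD k []).getD m 0 * T.cartan j (T.simp' m)).sum =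
      if k = j then 1 else 0)) T.rank) T.rank

theorem st_hSub_inj {M : List (List ℤ)} (hM : chkInv T M = true) (π : D.SteinbergGroup F →* GL D.Idx F)
    (hπ : ∀ r < D.nroots, ∀ t, π (D.stGen F r t) = xg C r t) {g : D.SteinbergGroup F}
    (hgH : g ∈ hSub (stRootMap C π)) (h1 : π g = 1) : g = 1 := by
  classical
  have hP := (stRels_rel C hπ).pairRels
  let ϕ : Fin D.rank → (Fˣ →* D.SteinbergGroup F) := fun i =>
    { toFun := fun v => (stRootMap C π).h (T.simp' i) (v : F)
      map_one' := by simpa using hP.h_one i.2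
      map_mul' := fun v w => by
        rw [Units.val_mul, st_h_mul C π (C.spec.simp_lt i i.2) v.ne_zero w.ne_zero] }
  have hc : Pairwise fun i j => ∀ x y, Commute (ϕ i x) (ϕ j y) := fun i j _ x y =>
    st_h_comm C K hS π hπ i.2 j.2 x.ne_zero y.ne_zero
  let Ψ : (Fin D.rank → Fˣ) →* D.SteinbergGroup F := MonoidHom.noncommPiCoprod ϕ hc
  have hΨ : ∀ (i : Fin D.rank) (v : Fˣ), Ψ (Pi.mulSingle i v) = ϕ i v := fun i v =>
    MonoidHom.noncommPiCoprod_mulSingle (hcomm := hc) ϕ i v
  have hcomp : π.comp Ψ = torusHom D T F := by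
    refine MonoidHom.noncommPiCoprodEquiv.symm.injective (Subtype.ext (funext fun i => MonoidHom.ext fun v => Units.ext ?_))
    simp only [MonoidHom.noncommPiCoprodEquiv, Equiv.coe_fn_symm_mk, MonoidHom.comp_apply, MonoidHom.mulSingle_apply]
    rw [hΨ]
    change ((π ((stRootMap C π).h (T.simp' i) (v : F)) : GL D.Idx F) : Matrix D.Idx D.Idx F) = _
    rw [show π ((stRootMap C π).h (T.simp' i) (v : F)) = hg C (T.simp' i) (v : F) from hP.π_h i.2 _,
      coe_hg_eq C (C.spec.simp_lt i i.2) v.ne_zero, coDiag_simple C i.2, dModel_eq_scal i.2, coe_torusHom]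
    congr 1
    funext j
    unfold extend'
    by_cases hj : j = (i : ℕ)
    · subst hj; rw [if_pos rfl, dif_pos i.2, Fin.eta, Pi.mulSingle_eq_same]
    · rw [if_neg hj]
      split_ifs with hj2
      · rw [Pi.mulSingle_eq_of_ne (fun e => hj (congrArg Fin.val e))]; rfl
      · rfl
  have hle : hSub (stRootMap C π) ≤ Ψ.range := by
    refine (Subgroup.closure_le _).2 ?_
    rintro a ⟨k, v, hk, hv, rfl⟩
    exact ⟨Pi.mulSingle ⟨k, hk⟩ (Units.mk0 v hv), hΨ _ _⟩
  obtain ⟨c, rfl⟩ := hle hgH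
  have hc1 : c ∈ (powHom (cartanMat D T) : (Fin D.rank → Fˣ) →* _).ker := by
    rw [← torusHom_ker C, MonoidHom.mem_ker, ← hcomp, MonoidHom.comp_apply, h1]
  let M' : Matrix (Fin D.rank) (Fin D.rank) ℤ := Matrix.of fun k m => (M.getD k []).getD m 0
  have hMA : M' * cartanMat D T = 1 := by
    ext k j
    have h := allBelow_iff.1 (allBelow_iff.1 hM k (by rw [C.spec.shape.rank_eq]; exact k.2)) j (by rw [C.spec.shape.rank_eq]; exact j.2)
    simp only [decide_eq_true_eq, C.spec.shape.rank_eq] at h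
    rw [Matrix.mul_apply, Matrix.one_apply, if_congr (by exact Fin.ext_iff) rfl rfl]
    refine Eq.trans ?_ h
    exact Fin.sum_univ_eq_sum_range (fun m => (M.getD k []).getD m 0 * T.cartan j (T.simp' m)) D.rank
  have hc2 : c = 1 := by
    have e : powHom (M' * cartanMat D T) c = c := by rw [hMA, powHom_one]; rfl
    rw [← e, powHom_mul, MonoidHom.comp_apply, MonoidHom.mem_ker.1 hc1, map_one]
  rw [hc2, map_one]

end

/-- The certificate of a trivial centre. -/
theorem exists_invCert {D : ChevalleyDatum} (hD : D ∈ [chevG2, chevF4, chevE8]) :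
    ∃ T M, FullCert D T ∧ chkSelf T = true ∧ chkInv T M = true := by
  simp only [List.mem_cons, List.not_mem_nil, or_false] at hD
  rcases hD with rfl | rfl | rfl
  · exact ⟨_, [[2, 1], [3, 2]], fullCertG2, chkSelf_G2, by decide +kernel⟩
  · exact ⟨_, [[2, 3, 2, 1], [3, 6, 4, 2], [4, 8, 6, 3], [2, 4, 3, 2]], fullCertF4, chkSelf_F4, by decide +kernel⟩
  · exact ⟨_, phiE8, fullCertE8, chkSelf_E8, by decide +kernel⟩

end Cfsg.Lib.Chev
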