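import Cfsg.Agent.Lib.Chev.BN
import Cfsg.Agent.Lib.Chev.Perfect

/-!
Groups with abstract root elements satisfying Steinberg's relations inside root subsystems, mapped to the
matrix group. Ordered-product form of the unipotent parts and the injectivity of the map on them.
-/

set_option autoImplicit false
set_option linter.unusedSectionVars false

namespace Cfsg.Lib.Chev

open Cfsg.Lie

variable {D : ChevalleyDatum} {T : Tbl} {F : Type*} [Field F]

/-- A factor of the commutator formula. -/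
def tEval (t u : F) (c : ℕ × ℤ × ℕ × ℕ) : ℕ × F := (c.1, (c.2.1 : F) * (-t) ^ c.2.2.1 * u ^ c.2.2.2)

/-- The product of abstract root elements along a word. -/
def xword {X : Type*} [Monoid X] (x : ℕ → F → X) (l : List (ℕ × F)) : X := (l.map fun p => x p.1 p.2).prod

theorem xword_nil {X : Type*} [Monoid X] (x : ℕ → F → X) : xword x [] = 1 := rfl

theorem xword_cons {X : Type*} [Monoid X] (x : ℕ → F → X) (p : ℕ × F) (l : List (ℕ × F)) :
    xword x (p :: l) = x p.1 p.2 * xword x l := by simp [xword]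

theorem xword_append {X : Type*} [Monoid X] (x : ℕ → F → X) (l m : List (ℕ × F)) :
    xword x (l ++ m) = xword x l * xword x m := by simp [xword]

theorem commWord_eq (C : Cert D T) {r s : ℕ} (hr : r < D.nroots) (hs : s < D.nroots) (t u : F) :
    D.commWord F r s t u = (tTerms T r s).map (tEval t u) := by
  rw [ChevalleyDatum.commWord, commTerms_eq C hr hs]
  rfl

/-- A root or its negative. -/
def sd (T : Tbl) (b : Bool) (r : ℕ) : ℕ := bif b then T.neg r else r

/-- The sign of a side. -/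
def sdSign (b : Bool) : ℤ := bif b then -1 else 1

/-- Root elements in an arbitrary group together with a map to the matrix group. -/
structure RootMap (C : Cert D T) (F : Type*) [Field F] (X : Type*) [Group X] where
  /-- The root elements. -/
  x : ℕ → F → X
  /-- The map to the matrix group. -/
  π : X →* GL D.Idx F

variable {C : Cert D T} {X : Type*} [Group X]

/-- Steinberg's relations (R1), (R2) inside a root subsystem, and compatibility with the map. -/
structure RelsOn (R : RootMap C F X) (J : Set ℕ) : Prop where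
  add : ∀ r, D.InRootSub J r → ∀ t u, R.x r t * R.x r u = R.x r (t + u)
  comm : ∀ r s, D.InRootSub J r → D.InRootSub J s → s ≠ r → s ≠ T.neg r → ∀ t u,
    (R.x s u)⁻¹ * (R.x r t)⁻¹ * R.x s u * R.x r t = xword R.x ((tTerms T r s).map (tEval t u))
  proj : ∀ r, D.InRootSub J r → ∀ t, R.π (R.x r t) = xg C r t

section Basics

theorem sd_lt (C : Cert D T) (b : Bool) {r : ℕ} (hr : r < D.nroots) : sd T b r < D.nroots := by
  cases b
  · exact hr
  · exact C.spec.neg_lt r hr

theorem sd_sd (C : Cert D T) (b : Bool) {r : ℕ} (hr : r < D.nroots) : sd T b (sd T b r) = r := by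
  cases b
  · rfl
  · exact C.spec.neg_neg r hr

theorem sd_cartan (C : Cert D T) (b : Bool) {r m : ℕ} (hr : r < D.nroots) (hm : m < D.rank) :
    T.cartan m (sd T b r) = sdSign b * T.cartan m r := by
  cases b
  · simp [sd, sdSign]
  · simp [sd, sdSign, C.spec.cart_neg m hm r hr]

theorem sdSign_sq (b : Bool) : sdSign b * sdSign b = 1 := by cases b <;> rfl

theorem comb_sd (C : Cert D T) (b : Bool) {r s q : ℕ} {i j : ℤ} (hr : r < D.nroots) (hs : s < D.nroots)
    (hq : q < D.nroots) (h : ∀ m < D.rank, T.cartan m q = i * T.cartan m r + j * T.cartan m s) :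
    ∀ m < D.rank, T.cartan m (sd T b q) = i * T.cartan m (sd T b r) + j * T.cartan m (sd T b s) := by
  intro m hm
  rw [sd_cartan C b hr hm, sd_cartan C b hs hm, sd_cartan C b hq hm, h m hm]
  ring

theorem sd_fun' (C : Cert D T) (b : Bool) {r : ℕ} (hr : r < D.nroots) :
    fun' C (sd T b r) = sdSign b * fun' C r := by
  cases b
  · simp [sd, sdSign]
  · simp [sd, sdSign, fun'_neg C hr]

theorem inRootSub_sd (C : Cert D T) (b : Bool) {J : Set ℕ} {r : ℕ} (h : D.InRootSub J r) :
    D.InRootSub J (sd T b r) := by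
  cases b
  · exact h
  · exact inRootSub_neg C h

theorem inRootSub_mono {J J' : Set ℕ} (h : J ⊆ J') {r : ℕ} (hr : D.InRootSub J r) : D.InRootSub J' r :=
  ⟨hr.1, fun i hi hi' => hr.2 i hi fun e => hi' (h e)⟩

theorem inRootSub_univ_iff {r : ℕ} : D.InRootSub Set.univ r ↔ r < D.nroots :=
  ⟨fun h => h.1, fun h => ⟨h, fun _ _ hi => absurd (Set.mem_univ _) hi⟩⟩

theorem inRootSub_comb (K : FullCert D T) {J : Set ℕ} {r s q : ℕ} {i j : ℤ}
    (hq : q < D.nroots) (h : ∀ m < D.rank, T.cartan m q = i * T.cartan m r + j * T.cartan m s)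
    (hr : D.InRootSub J r) (hs : D.InRootSub J s) : D.InRootSub J q := by
  obtain ⟨a, hlin, ha⟩ := exists_coef K.comm.cert K
  refine (inRootSub_iff K.comm.cert).2 ⟨hq, fun k hk hkJ => (ha q hq k hk).1.2 ?_⟩
  rw [hlin k r s q i j h, (ha r hr.1 k hk).1.1 (((inRootSub_iff K.comm.cert).1 hr).2 k hk hkJ),
    (ha s hs.1 k hk).1.1 (((inRootSub_iff K.comm.cert).1 hs).2 k hk hkJ)]
  ring

end Basics

namespace RelsOn

variable {R : RootMap C F X} {J : Set ℕ} (hR : RelsOn R J)
include hR

theorem mono {J' : Set ℕ} (h : J' ⊆ J) : RelsOn R J' where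
  add r hr := hR.add r (inRootSub_mono h hr)
  comm r s hr hs := hR.comm r s (inRootSub_mono h hr) (inRootSub_mono h hs)
  proj r hr := hR.proj r (inRootSub_mono h hr)

theorem x_zero {r : ℕ} (hr : D.InRootSub J r) : R.x r 0 = 1 := by
  simpa using hR.add r hr 0 0

theorem x_inv {r : ℕ} (hr : D.InRootSub J r) (t : F) : (R.x r t)⁻¹ = R.x r (-t) :=
  inv_eq_of_mul_eq_one_right (by rw [hR.add r hr, add_neg_cancel, hR.x_zero hr])

/-- One root element conjugated by another. -/
theorem conj_eq {r s : ℕ} (hr : D.InRootSub J r) (hs : D.InRootSub J s) (h1 : s ≠ r) (h2 : s ≠ T.neg r)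
    (u v : F) : R.x r u * R.x s v * (R.x r u)⁻¹ =
      R.x s v * xword R.x ((tTerms T r s).map (tEval (-u) v)) := by
  rw [← hR.comm r s hr hs h1 h2, ← hR.x_inv hr u, inv_inv]
  group

end RelsOn

/-- The subgroup generated by the root elements of a side of index at least `k` in a subsystem. -/
def ub (R : RootMap C F X) (J : Set ℕ) (b : Bool) (k : ℕ) : Subgroup X :=
  Subgroup.closure {g | ∃ (r : ℕ) (t : F), k ≤ r ∧ D.InRootSub J r ∧ g = R.x (sd T b r) t}

/-- The root elements of a side outside the subsystem of one fundamental root. -/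
def rad (R : RootMap C F X) (J : Set ℕ) (b : Bool) (i : ℕ) : Subgroup X :=
  Subgroup.closure {g | ∃ (r : ℕ) (t : F), D.InRootSub J r ∧ D.nroots ≤ 2 * r ∧ r ≠ T.simp' i ∧ g = R.x (sd T b r) t}

/-- The subgroup generated by the root elements of a fundamental root and its negative. -/
def oneSub (R : RootMap C F X) (i : ℕ) : Subgroup X :=
  Subgroup.closure {g | ∃ (a : ℕ) (u : F), (a = T.simp' i ∨ a = T.neg (T.simp' i)) ∧ g = R.x a u}

variable {R : RootMap C F X} {J : Set ℕ}

theorem mem_ub {b : Bool} {k r : ℕ} (hk : k ≤ r) (hr : D.InRootSub J r) (t : F) :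
    R.x (sd T b r) t ∈ ub R J b k :=
  Subgroup.subset_closure ⟨r, t, hk, hr, rfl⟩

theorem ub_anti {b : Bool} {k l : ℕ} (h : k ≤ l) : ub R J b l ≤ ub R J b k :=
  (Subgroup.closure_le _).2 fun _ ⟨_, t, h1, h2, e⟩ => e ▸ mem_ub (h.trans h1) h2 t

theorem rad_le_ub (b : Bool) (i : ℕ) : rad R J b i ≤ ub R J b (D.nroots / 2) :=
  (Subgroup.closure_le _).2 fun _ ⟨_, t, h1, h2, _, e⟩ => e ▸ mem_ub (by omega) h1 t

theorem conj_mem_of_gens {S : Set X} {g : X} (h : ∀ a ∈ S, g * a * g⁻¹ ∈ Subgroup.closure S) {y : X}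
    (hy : y ∈ Subgroup.closure S) : g * y * g⁻¹ ∈ Subgroup.closure S := by
  induction hy using Subgroup.closure_induction with
  | mem a ha => exact h a ha
  | one => simp
  | mul a b _ _ ha hb => simpa [mul_assoc] using mul_mem ha hb
  | inv a _ ha => simpa [mul_assoc] using inv_mem ha

namespace RelsOn

variable (hR : RelsOn R J) (K : FullCert D T)
include hR K

theorem conj_ub {b : Bool} {k : ℕ} (hk : D.nroots ≤ 2 * k) (hkJ : D.InRootSub J k) (t : F) {g : X}
    (hg : g ∈ ub R J b (k + 1)) : R.x (sd T b k) t * g * (R.x (sd T b k) t)⁻¹ ∈ ub R J b (k + 1) := by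
  refine conj_mem_of_gens ?_ hg
  rintro a ⟨r, u, hkr, hr, rfl⟩
  change R.x (sd T b k) t * R.x (sd T b r) u * (R.x (sd T b k) t)⁻¹ ∈ ub R J b (k + 1)
  have h1 : sd T b r ≠ sd T b k := fun e => by
    have := congrArg (sd T b) e
    rw [sd_sd C b hr.1, sd_sd C b hkJ.1] at this
    omega
  have h2 : sd T b r ≠ T.neg (sd T b k) := fun e => by
    have hn := C.neg_eq hkJ.1
    have := nroots_even C
    have hrn := hr.1
    have hkn := hkJ.1
    cases b
    · change r = T.neg k at e; omega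
    · change T.neg r = T.neg (T.neg k) at e
      rw [C.spec.neg_neg k hkn, C.neg_eq hr.1] at e
      omega
  rw [hR.conj_eq (inRootSub_sd C b hkJ) (inRootSub_sd C b hr) h1 h2]
  refine mul_mem (mem_ub hkr hr u) (list_prod_mem fun y hy => ?_)
  simp only [List.map_map, List.mem_map, Function.comp, tEval] at hy
  obtain ⟨c, hc, rfl⟩ := hy
  obtain ⟨hq, hi, hj, hw⟩ := tTerms_lt C (sd_lt C b hkJ.1) (sd_lt C b hr.1) c hc
  have hw' := comb_sd C b (sd_lt C b hkJ.1) (sd_lt C b hr.1) hq hw
  rw [sd_sd C b hkJ.1, sd_sd C b hr.1] at hw'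
  have hlt := sd_lt C b hq
  have hf := fun'_linear C hw'
  have f1 := fun'_pos C hkJ.1 hk
  have f2 := fun'_pos C hr.1 (show D.nroots ≤ 2 * r by omega)
  have hgt : fun' C k < fun' C (sd T b c.1) := by
    have : (1 : ℤ) ≤ c.2.2.1 := by exact_mod_cast hi
    have : (1 : ℤ) ≤ c.2.2.2 := by exact_mod_cast hj
    nlinarith
  have := (fun'_lt_iff C hkJ.1 hlt).1 hgt
  rw [← sd_sd C b hq]
  exact mem_ub (by omega) (inRootSub_comb K hlt hw' hkJ hr) _

theorem ub_step {b : Bool} {k : ℕ} (hk : D.nroots ≤ 2 * k) (hkJ : D.InRootSub J k) {g : X}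
    (hg : g ∈ ub R J b k) : ∃ t, ∃ a ∈ ub R J b (k + 1), g = R.x (sd T b k) t * a := by
  have hJ' := inRootSub_sd C b hkJ
  induction hg using Subgroup.closure_induction with
  | mem g hg =>
    obtain ⟨r, t, h1, h2, rfl⟩ := hg
    rcases h1.eq_or_lt with rfl | h1
    · exact ⟨t, 1, one_mem _, (mul_one _).symm⟩
    · exact ⟨0, _, mem_ub h1 h2 t, by rw [hR.x_zero hJ', one_mul]⟩
  | one => exact ⟨0, 1, one_mem _, by rw [hR.x_zero hJ', one_mul]⟩
  | mul a c _ _ ha hb =>
    obtain ⟨t, a', ha', rfl⟩ := ha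
    obtain ⟨u, b', hb', rfl⟩ := hb
    refine ⟨t + u, R.x (sd T b k) (-u) * a' * (R.x (sd T b k) (-u))⁻¹ * b',
      mul_mem (hR.conj_ub K hk hkJ _ ha') hb', ?_⟩
    rw [← hR.add _ hJ', ← hR.x_inv hJ']; group
  | inv a _ ha =>
    obtain ⟨t, a', ha', rfl⟩ := ha
    refine ⟨-t, R.x (sd T b k) t * a'⁻¹ * (R.x (sd T b k) t)⁻¹, hR.conj_ub K hk hkJ _ (inv_mem ha'), ?_⟩
    rw [← hR.x_inv hJ']; group

omit K in
theorem ub_skip {b : Bool} {k : ℕ} (hkJ : ¬ D.InRootSub J k) {g : X} (hg : g ∈ ub R J b k) :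
    g ∈ ub R J b (k + 1) := by
  refine Subgroup.closure_mono ?_ hg
  rintro a ⟨r, t, h1, h2, e⟩
  rcases h1.eq_or_lt with rfl | h1
  · exact absurd h2 hkJ
  · exact ⟨r, t, h1, h2, e⟩

omit K in
theorem π_ub_mem {b : Bool} {k : ℕ} (hk : D.nroots ≤ 2 * k) {c : ℤ} (hc : 0 ≤ c)
    (h : ∀ r, k ≤ r → r < D.nroots → c ≤ fun' C r) {g : X} (hg : g ∈ ub R J b k) :
    R.π g ∈ shiftGroup C F (sdSign b) c hc := by
  suffices hle : ub R J b k ≤ (shiftGroup C F (sdSign b) c hc).comap R.π from hle hg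
  refine (Subgroup.closure_le _).2 ?_
  rintro a ⟨r, t, h1, h2, rfl⟩
  show R.π _ ∈ shiftGroup C F (sdSign b) c hc
  rw [hR.proj _ (inRootSub_sd C b h2)]
  refine xg_mem_shift C (sd_lt C b h2.1) t ?_ hc
  rw [sd_fun' C b h2.1, ← mul_assoc, sdSign_sq, one_mul]
  exact h r h1 h2.1

theorem ub_inj_aux (b : Bool) (m : ℕ) : ∀ {k : ℕ}, D.nroots ≤ 2 * k → k + m = D.nroots →
    ∀ {g : X}, g ∈ ub R J b k → R.π g = 1 → g = 1 := by
  induction m with
  | zero =>
    intro k _ hkm g hg _
    have : ub R J b k = ⊥ := le_bot_iff.1 ((Subgroup.closure_le _).2 fun a ⟨r, t, h1, h2, _⟩ => by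
      have := h2.1; omega)
    rwa [this, Subgroup.mem_bot] at hg
  | succ m ih =>
    intro k hk hkm g hg hπ
    by_cases hkJ : D.InRootSub J k
    · obtain ⟨t, a, ha, rfl⟩ := hR.ub_step K hk hkJ hg
      rw [map_mul, hR.proj _ (inRootSub_sd C b hkJ), mul_eq_one_iff_eq_inv] at hπ
      have hpos := fun'_pos C hkJ.1 hk
      have hsh : xg C (sd T b k) t ∈ shiftGroup C F (sdSign b) (fun' C k + 1) (by omega) := by
        rw [hπ]
        exact inv_mem (hR.π_ub_mem (by omega) _ (fun r h1 h2 => by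
          have := fun'_lt C h2 (show k < r by omega); omega) ha)
      have he : sdSign b * fun' C (sd T b k) = fun' C k := by
        rw [sd_fun' C b hkJ.1, ← mul_assoc, sdSign_sq, one_mul]
      obtain rfl : t = 0 := xg_mem_shift_succ C (sd_lt C b hkJ.1) (σ := sdSign b) (by omega)
        (by simp only [he]; exact hsh)
      rw [hR.x_zero (inRootSub_sd C b hkJ), one_mul]
      refine ih (by omega) (by omega) ha ?_
      rw [← inv_inv (R.π a), ← hπ, xg_zero, inv_one]
    · exact ih (by omega) (by omega) (ub_skip hR hkJ hg) hπ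

/-- The map is injective on each unipotent part. -/
theorem ub_inj (b : Bool) {g h : X} (hg : g ∈ ub R J b (D.nroots / 2)) (hh : h ∈ ub R J b (D.nroots / 2))
    (e : R.π g = R.π h) : g = h := by
  have := nroots_even C
  exact mul_inv_eq_one.1 (hR.ub_inj_aux K b (D.nroots / 2) (k := D.nroots / 2) (by omega) (by omega)
    (mul_mem hg (inv_mem hh)) (by rw [map_mul, map_inv, e, mul_inv_cancel]))

theorem conj_rad {i : ℕ} (hi : i < D.rank) (hiJ : i ∈ J) (b : Bool) {g : X} (hg : g ∈ oneSub R i) {y : X}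
    (hy : y ∈ rad R J b i) : g * y * g⁻¹ ∈ rad R J b i := by
  revert y
  have hp := C.spec.simp_lt i hi
  have h1 : ∀ a u, (a = T.simp' i ∨ a = T.neg (T.simp' i)) → ∀ {y}, y ∈ rad R J b i →
      R.x a u * y * (R.x a u)⁻¹ ∈ rad R J b i := by
    intro a u ha y hy
    refine conj_mem_of_gens ?_ hy
    rintro z ⟨r, v, hr, hrp, hne, rfl⟩
    change R.x a u * R.x (sd T b r) v * (R.x a u)⁻¹ ∈ rad R J b i
    have has : D.InRootSub {i} a := by
      have h0 := inRootSub_simple C hi (Set.mem_singleton i)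
      rcases ha with rfl | rfl
      · exact h0
      · exact inRootSub_neg C h0
    have haJ : D.InRootSub J a := inRootSub_mono (Set.singleton_subset_iff.2 hiJ) has
    have hout : ¬ D.InRootSub {i} r := fun h => hne (inRootSub_singleton C K hi h hrp)
    have hs1 : sd T b r ≠ a := fun e => hout (by
      have := inRootSub_sd C b (e.symm ▸ has : D.InRootSub {i} (sd T b r))
      rwa [sd_sd C b hr.1] at this)
    have hs2 : sd T b r ≠ T.neg a := fun e => hout (by
      have := inRootSub_sd C b (e.symm ▸ inRootSub_neg C has : D.InRootSub {i} (sd T b r))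
      rwa [sd_sd C b hr.1] at this)
    rw [hR.conj_eq haJ (inRootSub_sd C b hr) hs1 hs2]
    refine mul_mem (Subgroup.subset_closure ⟨r, v, hr, hrp, hne, rfl⟩) (list_prod_mem fun z hz => ?_)
    simp only [List.map_map, List.mem_map, Function.comp, tEval] at hz
    obtain ⟨c, hc, rfl⟩ := hz
    obtain ⟨hq, -, hj, hw⟩ := tTerms_lt C has.1 (sd_lt C b hr.1) c hc
    have hw' := comb_sd C b has.1 (sd_lt C b hr.1) hq hw
    rw [sd_sd C b hr.1] at hw'
    have hq' := sd_lt C b hq
    obtain ⟨hqp, hqn⟩ := sum_pos C K hq' hj hw' (inRootSub_sd C b has) hr.1 hrp hout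
    refine Subgroup.subset_closure ⟨sd T b c.1, _, inRootSub_comb K hq' hw' (inRootSub_sd C b haJ) hr, hqp, ?_,
      by rw [sd_sd C b hq]⟩
    exact fun e => hqn (e ▸ inRootSub_simple C hi (Set.mem_singleton i))
  induction hg using Subgroup.closure_induction'' with
  | mem a ha =>
    obtain ⟨a, u, ha, rfl⟩ := ha
    exact fun {y} hy => h1 a u ha hy
  | inv_mem a ha =>
    obtain ⟨a, u, ha, rfl⟩ := ha
    intro y hy
    have has : D.InRootSub J a := by
      have h0 := inRootSub_simple C hi hiJ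
      rcases ha with rfl | rfl
      · exact h0
      · exact inRootSub_neg C h0
    rw [hR.x_inv has]
    exact h1 a (-u) ha hy
  | one => intro y hy; simpa using hy
  | mul a c _ _ ha hc =>
    intro y hy
    have := ha (hc hy)
    simpa [mul_assoc] using this

end RelsOn

end Cfsg.Lib.Chev
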