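import Cfsg.Agent.Lib.Chev.Presentation.Conj

/-!
The subgroup generated by the elements `h̄_k (v)`.
-/

set_option autoImplicit false
set_option linter.unusedSectionVars false

namespace Cfsg.Lib.Chev

open Cfsg.Lie

variable {D : ChevalleyDatum} {T : Tbl} {F : Type*} [Field F] {C : Cert D T} {X : Type*} [Group X]

/-- The subgroup generated by the `h̄_k (v)`. -/
def hSub (R : RootMap C F X) : Subgroup X :=
  Subgroup.closure {g | ∃ (k : ℕ) (v : F), k < D.rank ∧ v ≠ 0 ∧ g = R.h (T.simp' k) v}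

/-- The product of the `n̄_i` along a word. -/
def nWd (R : RootMap C F X) (w : List ℕ) : X := (w.map fun i => R.n (T.simp' i) 1).prod

theorem nWd_nil (R : RootMap C F X) : nWd R [] = 1 := rfl

theorem nWd_cons (R : RootMap C F X) (i : ℕ) (w : List ℕ) : nWd R (i :: w) = R.n (T.simp' i) 1 * nWd R w := by
  simp [nWd]

theorem nWd_append (R : RootMap C F X) (v w : List ℕ) : nWd R (v ++ w) = nWd R v * nWd R w := by simp [nWd]

namespace RootMap

variable {R : RootMap C F X}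

/-- A conjugation that moves `±r` as the matrices do moves `n̄_r`. -/
theorem Mv.conj_n {g : X} {r r' : ℕ} (h1 : R.Mv g r r') (h2 : R.Mv g (T.neg r) (T.neg r')) (hr' : r' < D.nroots)
    {v u : F} (e1 : R.π g * xg C r v * (R.π g)⁻¹ = xg C r' u)
    (e2 : R.π g * xg C (T.neg r) (-v⁻¹) * (R.π g)⁻¹ = xg C (T.neg r') (-u⁻¹)) :
    g * R.n r v * g⁻¹ = R.n r' u := by
  rw [RootMap.n, RootMap.n, ← h1.eq hr' e1, ← h2.eq (C.spec.neg_lt _ hr') e2]
  group

theorem hSub_mem_h {k : ℕ} (hk : k < D.rank) {v : F} (hv : v ≠ 0) : R.h (T.simp' k) v ∈ hSub R :=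
  Subgroup.subset_closure ⟨k, v, hk, hv, rfl⟩

end RootMap

namespace PairRels

variable {R : RootMap C F X} (hP : PairRels R) (K : FullCert D T) (hS : chkSelf T = true)
include hP K hS

theorem n_conj_n {i : ℕ} (hi : i < D.rank) {J : Set ℕ} (hJ : RelsOn R J) (hiJ : i ∈ J) {r : ℕ}
    (hr : D.InRootSub J r) (v : F) :
    R.n (T.simp' i) 1 * R.n r v * (R.n (T.simp' i) 1)⁻¹ = R.n (T.refl' i r) ((T.eta' i r : ℤ) * v) := by
  have h2 := hP.n_mv hi K hS hJ hiJ (inRootSub_neg C hr)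
  rw [C.spec.refl_neg i hi r hr.1] at h2
  refine (hP.n_mv hi K hS hJ hiJ hr).conj_n h2 (C.spec.refl_lt i hi r hr.1) ?_ ?_ <;> rw [hP.π_n hi]
  · exact nu_conj_xg C hi hr.1 v
  · have := nu_conj_xg C hi (C.spec.neg_lt r hr.1) (-v⁻¹ : F)
    rw [nu] at this
    rw [this, C.spec.refl_neg i hi r hr.1, C.spec.eta_neg i hi r hr.1]
    congr 1
    rcases eta_cases T i r with h | h <;> simp [h, inv_neg]

theorem h_conj_n {k i : ℕ} (hk : k < D.rank) (hi : i < D.rank) {v : F} (hv : v ≠ 0) :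
    R.h (T.simp' k) v * R.n (T.simp' i) 1 * (R.h (T.simp' k) v)⁻¹ =
      R.n (T.simp' i) (v ^ T.cartan k (T.simp' i)) := by
  have hp : D.InRootSub {k, i} (T.simp' i) := inRootSub_simple C hi (Set.mem_insert_of_mem _ rfl)
  have hkJ : k ∈ ({k, i} : Set ℕ) := Set.mem_insert k _
  refine (hP.h_mv hk K hS hv (hP k hk i hi) hkJ hp).conj_n (hP.h_mv hk K hS hv (hP k hk i hi) hkJ (inRootSub_neg C hp))
    hp.1 ?_ ?_ <;> rw [hP.π_h hk]
  · rw [hg_simple_conj C hk hp.1 hv, mul_one]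
  · rw [hg_simple_conj C hk (C.spec.neg_lt _ hp.1) hv, C.spec.cart_neg k hk _ hp.1, zpow_neg, inv_one, mul_neg, mul_one]

theorem n_conj_h {k i : ℕ} (hk : k < D.rank) (hi : i < D.rank) {v : F} (hv : v ≠ 0) :
    R.n (T.simp' i) 1 * R.h (T.simp' k) v * (R.n (T.simp' i) 1)⁻¹ =
      (R.h (T.simp' i) (v ^ T.cartan k (T.simp' i)))⁻¹ * R.h (T.simp' k) v := by
  have e := hP.h_conj_n K hS hk hi hv
  rw [← hP.h_mul_n hi (v ^ T.cartan k (T.simp' i))] at e
  rw [mul_inv_eq_iff_eq_mul] at e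
  rw [mul_inv_eq_iff_eq_mul, mul_assoc _ (R.h (T.simp' k) v), e]
  group

theorem hSub_conj {i : ℕ} (hi : i < D.rank) {g : X} (hg : g ∈ hSub R) :
    R.n (T.simp' i) 1 * g * (R.n (T.simp' i) 1)⁻¹ ∈ hSub R ∧
      (R.n (T.simp' i) 1)⁻¹ * g * R.n (T.simp' i) 1 ∈ hSub R := by
  have key : ∀ {g}, g ∈ hSub R → R.n (T.simp' i) 1 * g * (R.n (T.simp' i) 1)⁻¹ ∈ hSub R := by
    intro g hg
    refine conj_mem_of_gens ?_ hg
    rintro a ⟨k, v, hk, hv, rfl⟩
    rw [hP.n_conj_h K hS hk hi hv]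
    exact mul_mem (inv_mem (RootMap.hSub_mem_h hi (zpow_ne_zero _ hv))) (RootMap.hSub_mem_h hk hv)
  refine ⟨key hg, ?_⟩
  have hm : R.h (T.simp' i) (-1 : F) ∈ hSub R := RootMap.hSub_mem_h hi (neg_ne_zero.2 one_ne_zero)
  have e : (R.n (T.simp' i) 1)⁻¹ = R.h (T.simp' i) (-1 : F) * R.n (T.simp' i) 1 := by
    rw [hP.h_mul_n hi, hP.n_inv hi]
  have e2 : (R.n (T.simp' i) 1)⁻¹ * g * R.n (T.simp' i) 1 =
      R.h (T.simp' i) (-1 : F) * (R.n (T.simp' i) 1 * g * (R.n (T.simp' i) 1)⁻¹) * (R.h (T.simp' i) (-1 : F))⁻¹ := by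
    generalize R.n (T.simp' i) 1 = a, R.h (T.simp' i) (-1 : F) = b at e
    rw [show b = a⁻¹ * a⁻¹ by rw [eq_mul_inv_iff_mul_eq]; exact e.symm]
    group
  rw [e2]
  exact mul_mem (mul_mem hm (key hg)) (inv_mem hm)

theorem π_hSub {g : X} (hg : g ∈ hSub R) : R.π g ∈ D.diagonalSubgroup F := by
  suffices h : hSub R ≤ (D.diagonalSubgroup F).comap R.π from h hg
  refine (Subgroup.closure_le _).2 ?_
  rintro a ⟨k, v, hk, hv, rfl⟩
  show R.π _ ∈ D.diagonalSubgroup F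
  rw [hP.π_h hk]
  exact hg_mem C (C.spec.simp_lt k hk) hv

theorem hSub_mv {g : X} (hg : g ∈ hSub R) {i j : ℕ} (hi : i < D.rank) (hj : j < D.rank) {s : ℕ}
    (hs : D.InRootSub {i, j} s) : R.Mv g s s := by
  revert g
  refine sub_induction C K (P := fun s => ∀ {g : X}, g ∈ hSub R → R.Mv g s s) ?_ ?_ s hs
  · intro m _ hm g hg
    induction hg using Subgroup.closure_induction with
    | mem a ha =>
      obtain ⟨k, v, hk, hv, rfl⟩ := ha
      exact hP.h_mv hk K hS hv (hP k hk m hm) (Set.mem_insert k _) (inRootSub_simple C hm (Set.mem_insert_of_mem _ rfl))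
    | one => exact RootMap.Mv.one _
    | mul a b _ _ ha hb => exact hb.mul ha
    | inv a _ ha => exact ha.inv
  · intro m hmJ hm r hr ih g hg
    have hn := hP.n_mv hm K hS (hP i hi j hj) hmJ hr
    have := (hn.inv.mul (ih (hP.hSub_conj K hS hm hg).2)).mul hn
    rwa [show R.n (T.simp' m) 1 * ((R.n (T.simp' m) 1)⁻¹ * g * R.n (T.simp' m) 1 * (R.n (T.simp' m) 1)⁻¹) = g by
      group] at this

end PairRels

end Cfsg.Lib.Chev
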